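import Cfsg.Agent.Coset.Fi22Inv.AutoData
import Cfsg.Agent.Coset.Fi22Out.Out
import Cfsg.Agent.Coset.Fi22O8.Group

/-!
An involutory outer automorphism of the presented Fischer group and its action on the 3510 points.
-/

set_option autoImplicit false
set_option linter.style.haveILetI false
set_option maxRecDepth 100000
set_option Elab.async false

namespace CfsgLib.Coset.Fi22Inv

open CfsgLib.Coset CfsgLib.Coset.TransOut Fi22 Fi22O8

/-- An automorphism acting on the class as a function on the points. -/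
structure PtAut (β : MulAut Cfsg.Spor.Fi22) (f : Nat → Nat) : Prop where
  lt : ∀ x, x < 3510 → f x < 3510
  act : ∀ x, x < 3510 → β (dd x) = dd (f x)

theorem dd_inj {x y : Nat} (hx : x < 3510) (hy : y < 3510) (h : dd x = dd y) : x = y := by
  have := congrArg Fin.val (Fi22Out.cls.dT_inj h)
  rwa [pn_val hx, pn_val hy] at this

theorem PtAut.invol {β : MulAut Cfsg.Spor.Fi22} {f : Nat → Nat} (hp : PtAut β f) (hb : β * β = 1)
    {x : Nat} (hx : x < 3510) : f (f x) = x := by
  refine dd_inj (hp.lt _ (hp.lt _ hx)) hx ?_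
  rw [← hp.act _ (hp.lt _ hx), ← hp.act _ hx]
  exact DFunLike.congr_fun hb _

/-- The fixed points of an automorphism. -/
def fixSub (β : MulAut Cfsg.Spor.Fi22) : Subgroup Cfsg.Spor.Fi22 where
  carrier := {g | β g = g}
  one_mem' := map_one β
  mul_mem' := fun {a b} (ha : β a = a) (hb : β b = b) => by
    show β (a * b) = a * b
    rw [map_mul, ha, hb]
  inv_mem' := fun {a} (ha : β a = a) => by
    show β a⁻¹ = a⁻¹
    rw [map_inv, ha]

theorem mem_fixSub {β : MulAut Cfsg.Spor.Fi22} {g : Cfsg.Spor.Fi22} : g ∈ fixSub β ↔ β g = g := Iff.rfl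

theorem PtAut.equiv {β : MulAut Cfsg.Spor.Fi22} {f : Nat → Nat} (hp : PtAut β f) {g : Cfsg.Spor.Fi22}
    (hg : g ∈ fixSub β) (j : Fin 3510) : f (Fi22.ρ g j).val = (Fi22.ρ g (pn (f j.val))).val := by
  have e : ∀ i : Fin 3510, pn i.val = i := fun i => Fin.ext (pn_val i.2)
  refine dd_inj (hp.lt _ (Fin.isLt _)) (Fin.isLt _) ?_
  rw [← hp.act _ (Fin.isLt _)]
  show β (Fi22Out.cls.dT (pn (Fi22.ρ g j).val)) = Fi22Out.cls.dT (pn (Fi22.ρ g (pn (f j.val))).val)
  rw [e, e, ← Fi22Out.cls.conj_dT, ← Fi22Out.cls.conj_dT, map_mul, map_mul, map_inv, mem_fixSub.1 hg]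
  show g * β (Fi22Out.cls.dT j) * g⁻¹ = _
  have h := hp.act j.val j.2
  rw [dd, dd, e] at h
  rw [h]

/-- The involutory outer automorphism. -/
noncomputable def alpha : MulAut Cfsg.Spor.Fi22 := MulAut.conj (ev Lg g0w) * Fi22Out.outer

/-- The images of the generators as words. -/
noncomputable def imA (l : Nat) : List Nat := g0w ++ Fi22Out.imgW.getD l [] ++ g0w.reverse

/-- The image of a generator is the transposition of its point. -/
noncomputable def gensOK (l : Nat) : Bool :=
  cond (Nat.ble (Nat.add (qA.getD l 0) 1) 3510)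
    (cond (good Top.Tb Top.Par 9 (qA.getD l 0))
      (cond (checkLetters 9 [imA l, tw Top.Par [0] (qA.getD l 0)])
        (cond (allList (fun b => Nat.beq (follow (tget Top.Tb) b (imA l))
          (follow (tget Top.Tb) b (tw Top.Par [0] (qA.getD l 0)))) (U62.base.map Fin.val))
          (cond (Nat.beq (fA (qA.getD l 0)) (Fi22Out.pts.getD l 0))
            (Nat.beq (fA (Fi22Out.pts.getD l 0)) (qA.getD l 0)) false) false) false) false) false

/-- The step from the parent of a point. -/
noncomputable def stepOK (x : Nat) : Bool :=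
  cond (Nat.ble (Nat.add (fA x) 1) 3510)
    (cond (Nat.beq x 0) (Nat.beq (fA x) (qA.getD 0 0))
      (cond (Nat.ble (Nat.add (field (Top.Par x) 0) 1) 3510)
        (cond (Nat.ble (Nat.add (field (Top.Par x) 1) 1) 9)
          (cond (Nat.ble (Nat.add (depth (field (Top.Par x) 0)) 1) (depth x))
            (cond (Nat.beq (follow (tget Top.Tb) (field (Top.Par x) 0) [field (Top.Par x) 1]) x)
              (Nat.beq (sv (qA.getD (field (Top.Par x) 1) 0) (fA (field (Top.Par x) 0))) (fA x)) false)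
            false) false) false)) false

theorem gens_ok : allBelow 4 9 gensOK = true := by decide +kernel

theorem steps_ok : allBelow 12 3510 stepOK = true := by decide +kernel

theorem alpha_fl {l : Nat} (hl : l < 9) : Ok (qA.getD l 0) ∧ alpha (fl Lg l) = dd (qA.getD l 0) ∧
    fA (qA.getD l 0) = Fi22Out.pts.getD l 0 ∧ fA (Fi22Out.pts.getD l 0) = qA.getD l 0 := by
  have h := of_allBelow gens_ok l hl
  simp only [gensOK, cond_false_eq_true] at h
  obtain ⟨h1, h2, h3, h4, h5, h6⟩ := h
  have hok : Ok (qA.getD l 0) := ⟨Nat.ble_eq.mp h1, h2⟩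
  refine ⟨hok, ?_, Nat.eq_of_beq_eq_true h5, Nat.eq_of_beq_eq_true h6⟩
  have hA : checkLetters 9 [imA l] = true := allList_iff.mpr fun w hw =>
    allList_iff.mp h3 w (by rw [List.mem_singleton.1 hw]; simp)
  have hB : checkLetters 9 [tw Top.Par [0] (qA.getD l 0)] = true := allList_iff.mpr fun w hw =>
    allList_iff.mp h3 w (by rw [List.mem_singleton.1 hw]; simp)
  show ev Lg g0w * Fi22Out.twist (fl Lg l) * (ev Lg g0w)⁻¹ = _
  rw [Fi22Out.twist_fl hl, ← Fi22.ev_rev, ← ev_append, ← ev_append]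
  show ev Lg (imA l) = _
  rw [U62.eq_of_base hA hB h4, dd, Fi22Out.cls.dT_eq_ev (pn (qA.getD l 0))
    (by rw [pn_val hok.1]; exact (len_Lg ▸ hok.2 :)), pn_val hok.1]

theorem dd_zero : dd 0 = fl Lg 0 := by
  show Fi22Out.cls.dT (pn 0) = _
  rw [show pn 0 = Fi22Out.o from rfl, Fi22Out.cls.dT_o, ev_cons, ev_nil, mul_one]

theorem alpha_pt : PtAut alpha fA := by
  have hlt : ∀ x, x < 3510 → fA x < 3510 := fun x hx => by
    have h := of_allBelow steps_ok x hx
    simp only [stepOK, cond_false_eq_true] at h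
    exact Nat.ble_eq.mp h.1
  suffices ∀ d x, depth x = d → x < 3510 → alpha (dd x) = dd (fA x) from ⟨hlt, fun x hx => this _ x rfl hx⟩
  intro d
  induction d using Nat.strong_induction_on with
  | _ d ih =>
    intro x hd hx
    have h := of_allBelow steps_ok x hx
    simp only [stepOK, cond_false_eq_true] at h
    cases hz : Nat.beq x 0 with
    | true =>
      rw [hz, cond_true] at h
      obtain rfl := Nat.eq_of_beq_eq_true hz
      rw [Nat.eq_of_beq_eq_true h.2, dd_zero, (alpha_fl (l := 0) (by norm_num)).2.1]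
    | false =>
      rw [hz, cond_false] at h
      simp only [cond_false_eq_true] at h
      obtain ⟨-, hu, hl, hdep, hx', hf⟩ := h
      have hu' : field (Top.Par x) 0 < 3510 := Nat.ble_eq.mp hu
      have hl' : field (Top.Par x) 1 < 9 := Nat.ble_eq.mp hl
      have hrec := ih (depth (field (Top.Par x) 0)) (by
        have := Nat.ble_eq.mp hdep; simp only [Nat.add_eq] at this; omega) _ rfl hu'
      obtain ⟨hq, hqa, -⟩ := alpha_fl hl'
      have hconj : fl Lg (field (Top.Par x) 1) * dd (field (Top.Par x) 0) * (fl Lg (field (Top.Par x) 1))⁻¹ =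
          dd x := by
        show fl Lg (field (Top.Par x) 1) * Fi22Out.cls.dT _ * _ = _
        rw [Fi22Out.cls.conj_dT]
        show _ = Fi22Out.cls.dT (pn x)
        refine congrArg _ (Fin.ext ?_)
        have hl'' : ∀ l ∈ [field (Top.Par x) 1], l < (Lg).length := fun l e => by
          rw [List.mem_singleton.1 e, len_Lg]; exact hl'
        have hf := Fi22.matches_ρ.follow_eq [field (Top.Par x) 1] (pn (field (Top.Par x) 0)) hl''
        rw [pn_val hu', Nat.eq_of_beq_eq_true hx', ev_cons, ev_nil, mul_one, ← map_inv,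
          inv_eq_of_mul_eq_one_right (sq_all _)] at hf
        rw [hf, pn_val hx]
      rw [← hconj, map_mul, map_mul, map_inv, hqa, hrec, dd_conj hq (hlt _ hu'),
        Nat.eq_of_beq_eq_true hf]

theorem fl_eq_dd {l : Nat} (hl : l < 9) : Fi22Out.pts.getD l 0 < 3510 ∧ fl Lg l = dd (Fi22Out.pts.getD l 0) := by
  obtain ⟨h, e⟩ := Fi22Out.fl_eq_dT hl
  exact ⟨h, e.trans (congrArg Fi22Out.cls.dT (Fin.ext (pn_val h).symm))⟩

theorem alpha_sq : alpha * alpha = 1 := Fi22Out.ext_gens fun l hl => by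
  obtain ⟨hq, he, hb, -⟩ := alpha_fl hl
  show alpha (alpha (fl Lg l)) = fl Lg l
  rw [he, alpha_pt.act _ hq.1, hb, (fl_eq_dd hl).2]

theorem alpha_not_inner : alpha ∉ Cfsg.Inn Cfsg.Spor.Fi22 := by
  intro h
  refine Fi22Out.outer_not_inner ?_
  have := mul_mem (inv_mem (⟨ev Lg g0w, rfl⟩ : MulAut.conj (ev Lg g0w) ∈ Cfsg.Inn Cfsg.Spor.Fi22)) h
  rwa [alpha, inv_mul_cancel_left] at this

/-- Automorphisms agreeing on some transpositions agree on the transpositions reached from them. -/
theorem agree_chain {φ ψ : MulAut Cfsg.Spor.Fi22} {gens : List Nat} (hg : ∀ g ∈ gens, Ok g)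
    (h : ∀ g ∈ gens, φ (dd g) = ψ (dd g)) {l : List Nat} (hne : l ≠ []) (hl : ∀ i ∈ l, i < gens.length) :
    chainEnd gens l < 3510 ∧ φ (dd (chainEnd gens l)) = ψ (dd (chainEnd gens l)) :=
  chain_mem (P := fun z => φ z = ψ z) hg h (fun g hgm z hz => by
    rw [map_mul, map_mul, map_mul, map_mul, map_inv, map_inv, h g hgm, hz]) hne hl

end CfsgLib.Coset.Fi22Inv
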