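import Mathlib

/-!
Data for the fixed points of the second outer involution.
-/

set_option autoImplicit false
set_option maxRecDepth 100000

namespace CfsgLib.Coset.Fi22Inv

/-- Seven fixed transpositions commuting with the first point, in the pattern of `E₇`. -/
def rootsA : List Nat := [244, 373, 370, 274, 485, 233, 343]

/-- Chains from the first point along the nine generators. -/
def orbA : List (Nat × List Nat) := [(0, []), (1753, [2]), (3268, [5]), (32, [8]), (2456, [2, 0]), (2183, [2, 3]), (1543, [2, 5]), (2917, [2, 8]), (2229, [5, 4]), (2966, [5, 6]), (3071, [5, 8]), (1125, [8, 0]), (3456, [8, 1]), (3126, [8, 2]), (301, [8, 3]), (3183, [8, 4]), (2833, [8, 5]), (114, [8, 6]), (3204, [8, 7]), (1928, [2, 0, 3]), (1765, [2, 0, 5]), (961, [2, 0, 8]), (2386, [2, 3, 1]), (2416, [2, 3, 4]), (858, [2, 3, 5]), (2495, [2, 3, 8]), (2939, [2, 5, 4]), (274, [2, 5, 6]), (1163, [2,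 5, 8]), (2836, [2, 8, 0]), (2359, [2, 8, 1]), (2393, [2, 8, 2]), (3173, [2, 8, 3]), (2314, [2, 8, 4]), (2377, [2, 8, 5]), (1480, [2, 8, 6]), (1898, [2, 8, 7]), (1496, [5, 4, 3]), (3012, [5, 4, 6]), (3330, [5, 4, 8]), (1183, [5, 6, 7]), (3389, [5, 6, 8]), (1677, [5, 8, 0]), (1990, [5, 8, 1]), (1585, [5, 8, 2]), (3406, [5, 8, 3]), (1222, [5, 8, 4]), (2921, [5, 8, 5]), (3150, [5, 8, 6]), (3509, [5, 8, 7]), (2984, [8, 0, 1]), (2779, [8, 0, 2]), (670, [8, 0, 3]), (3378, [8, 0, 4]), (1498, [8, 0, 5]), (75, [8, 0, 6]), (2802, [8, 0, 7]), (2438, [8, 1, 2]), (3304, [8, 1, 3]), (1323, [8, 1, 4]), (1847, [8, 1, 5]), (3349, [8, 1, 6]), (2544, [8, 1, 7]), (3060, [8, 2, 0]), (2082, [8, 2, 4]), (3384, [8, 2, 5]), (1516, [8, 2, 6]), (1916, [8, 2, 7]), (3379, [8, 3, 1]), (3091, [8, 3, 2]), (1326, [8, 3, 4]), (388, [8, 3, 6]), (801, [8, 3, 7]), (974, [8, 4, 3]), (2781, [8, 4, 5]), (1519, [8,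 4, 6]), (1815, [8, 4, 7]), (1424, [8, 5, 4]), (3501, [8, 5, 7]), (255, [8, 6, 7]), (1520, [8, 7, 6]), (2652, [2, 0, 3, 1]), (1762, [2, 0, 3, 2]), (2225, [2, 0, 3, 4]), (2255, [2, 0, 3, 5]), (988, [2, 0, 5, 4]), (3004, [2, 0, 5, 6]), (3329, [2, 0, 5, 8]), (2533, [2, 0, 8, 0]), (61, [2, 0, 8, 1]), (2786, [2, 0, 8, 2]), (2507, [2, 0, 8, 3]), (2349, [2, 0, 8, 4]), (2962, [2, 0, 8, 5]), (1147, [2, 0, 8, 6]), (356, [2, 0, 8, 7]), (1725, [2, 3, 1, 4]), (1808, [2, 3, 1, 5]), (2480, [2, 3, 1, 8]), (1259, [2, 3, 4, 8]), (1743, [2, 3, 5, 6]), (413, [2, 3, 5, 8]), (1699, [2, 3, 8, 0]), (1491, [2, 3, 8, 1]), (2871, [2, 3, 8, 3]), (2999, [2, 3, 8, 4]), (577, [2, 3, 8, 5]), (2729, [2, 3, 8, 7]), (2178, [2, 5, 4, 6]), (1850, [2, 5, 4, 8]), (2942, [2, 5, 6, 7]), (72, [2, 5, 6, 8]), (2048, [2, 5, 8, 0]), (2078, [2, 5, 8, 1]), (2027, [2, 5, 8, 2]), (724, [2, 5, 8, 3]), (2076, [2, 5, 8, 4]), (2553,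 [2, 5, 8, 5]), (2841, [2, 5, 8, 6]), (2015, [2, 5, 8, 7]), (1890, [2, 8, 0, 4]), (2169, [2, 8, 0, 5]), (402, [2, 8, 1, 2]), (3361, [2, 8, 1, 3]), (3415, [2, 8, 1, 4]), (1243, [2, 8, 1, 5]), (819, [2, 8, 1, 6]), (2980, [2, 8, 2, 0]), (362, [2, 8, 2, 3]), (210, [2, 8, 2, 4]), (2265, [2, 8, 2, 5]), (77, [2, 8, 2, 7]), (523, [2, 8, 3, 1]), (966, [2, 8, 3, 2]), (1100, [2, 8, 3, 7]), (791, [2, 8, 4, 3]), (2030, [2, 8, 4, 5]), (1301, [2, 8, 4, 6]), (522, [2, 8, 4, 7]), (264, [2, 8, 5, 4]), (3401, [2, 8, 5, 6]), (2587, [2, 8, 5, 7]), (1643, [2, 8, 6, 5]), (1233, [5, 4, 3, 1]), (2574, [5, 4, 3, 6]), (244, [5, 4, 6, 5]), (2933, [5, 4, 6, 7]), (2302, [5, 4, 6, 8]), (467, [5, 4, 8, 1]), (2309, [5, 4, 8, 2]), (2535, [5, 4, 8, 4]), (865, [5, 4, 8, 5]), (910, [5, 4, 8, 7]), (499, [5, 6, 8, 1]), (1404, [5, 6, 8, 2]), (2770, [5, 6, 8, 4]), (2127, [5, 6, 8, 5]), (3466, [5, 6, 8, 6]), (315, [5,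 8, 0, 1]), (3311, [5, 8, 0, 2]), (1830, [5, 8, 0, 4]), (515, [5, 8, 0, 5]), (725, [5, 8, 0, 7]), (1074, [5, 8, 1, 2]), (707, [5, 8, 1, 4]), (1112, [5, 8, 1, 6]), (99, [5, 8, 1, 7]), (3099, [5, 8, 2, 0]), (131, [5, 8, 3, 1]), (1363, [5, 8, 3, 2]), (2387, [5, 8, 3, 5]), (2616, [5, 8, 4, 3]), (702, [5, 8, 4, 5]), (1209, [5, 8, 4, 7]), (1907, [5, 8, 6, 5]), (191, [8, 0, 1, 2]), (906, [8, 0, 1, 3]), (23, [8, 0, 1, 4]), (279, [8, 0, 1, 5]), (1492, [8, 0, 1, 6]), (1612, [8, 0, 1, 7])]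

/-- The fixed points of the second involution other than the first point, with non-commuting partners. -/
def witA : List (Nat × Nat) := [(233, 336), (244, 336), (274, 339), (336, 233), (339, 233), (341, 244), (343, 233), (345, 244), (348, 233), (370, 244), (373, 274), (381, 233), (393, 233), (441, 274), (472, 233), (485, 233), (488, 274), (682, 233), (719, 274), (760, 244), (828, 244), (844, 274), (857, 233), (858, 233), (862, 244), (886, 233), (945, 339), (953, 233), (988, 274), (1019, 244), (1059, 233), (1166, 233), (1174, 233), (1191, 341), (1199, 233), (1213, 233), (1219, 244), (1236, 244), (1356, 233), (1540, 244), (1543, 233), (1551, 233), (1579, 244), (1667, 244), (1728, 233), (1729, 233), (1743, 244), (1762, 244), (1765, 233), (1778, 233), (1808, 244), (1912, 233), (1995, 336), (2178, 233), (2244, 233), (2255, 233), (2294, 244), (2380, 233), (2427, 233), (2939, 336),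 (2942, 233), (3004, 274), (3270, 274)]

end CfsgLib.Coset.Fi22Inv
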