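import Cfsg.Agent.Coset.Fi22Inv.CentS
import Cfsg.Agent.Coset.Fi22Inv.CentAData
import Cfsg.Agent.SpSixMult.Weyl
import Cfsg.Agent.S0270
import Cfsg.Prelude.Def_Classical

/-!
The second outer involution: its fixed points are the centraliser of the first point in those of the first,
a group `2 × Sp₆(2)`.
-/

set_option autoImplicit false
set_option linter.style.haveILetI false
set_option maxRecDepth 100000
set_option Elab.async false

namespace CfsgLib.Coset.Fi22Inv

open CfsgLib.Coset CfsgLib.Coset.TransOut Fi22 Fi22O8 CfsgLib.SpPres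

theorem ok_F {x : Nat} (hx : x ∈ centSData.F) : Ok x ∧ fA x = x := by
  have h := centS_check
  simp only [FixData.check, cond_false_eq_true] at h
  have h' := allList_iff.mp h.1 x hx
  simp only [cond_false_eq_true] at h'
  exact ⟨⟨Nat.ble_eq.mp h'.1, h'.2.1⟩, Nat.eq_of_beq_eq_true h'.2.2⟩

theorem ptA_facts : ptA = 0 ∧ fA 0 = 0 ∧ mem' centSData.F 0 = true := by decide +kernel

theorem alpha_ddA : alpha (dd ptA) = dd ptA := by
  rw [ptA_facts.1, alpha_pt.act 0 (by norm_num), ptA_facts.2.1]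

/-- The second involution. -/
noncomputable def alphaA : MulAut Cfsg.Spor.Fi22 := alpha * MulAut.conj (dd ptA)

/-- Its action on the points. -/
noncomputable def fAA (x : Nat) : Nat := fA (sv ptA x)

theorem ptAut_mul {β : MulAut Cfsg.Spor.Fi22} {f : Nat → Nat} (hp : PtAut β f) {a : Nat} (ha : Ok a) :
    PtAut (β * MulAut.conj (dd a)) fun x => f (sv a x) := by
  refine ⟨fun x hx => hp.lt _ (sv_lt ha hx), fun x hx => ?_⟩
  show β (dd a * dd x * (dd a)⁻¹) = _
  rw [dd_conj ha hx, hp.act _ (sv_lt ha hx)]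

theorem ok_zero : Ok 0 := ok_pts zero_mem_pts

theorem alphaA_pt : PtAut alphaA fAA := ptAut_mul alpha_pt (ptA_facts.1 ▸ ok_zero)

/-- The facts about the fixed points of the second involution. -/
theorem witA_ok : allBelow 12 3510 (fun x => cond (Nat.beq (fAA x) x)
      (cond (Nat.beq x 0) true (mem' (witA.map Prod.fst) x)) true) = true ∧
    allList (fun p : Nat × Nat => cond (Nat.ble (Nat.add p.2 1) 3510) (cond (good Top.Tb Top.Par 9 p.2)
      (cond (Nat.ble (Nat.add p.1 1) 3510) (cond (good Top.Tb Top.Par 9 p.1)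
        (cond (Nat.beq (fAA p.2) p.2) (cond (fixes p.1 p.2) false true) false) false) false) false) false) witA = true ∧
    allBelow 12 3510 (fun x => cond (Nat.beq (fAA x) x) (fixes 0 x) true) = true ∧ Nat.beq (fAA 0) 0 = true := by
  decide +kernel

theorem fix_alphaA : fixSub alphaA = fixSub alpha ⊓ Subgroup.centralizer ({dd ptA} : Set Cfsg.Spor.Fi22) := by
  refine le_antisymm (fun g hg => ?_) fun g hg => ?_
  · obtain ⟨hall, hwit, hcom, h00⟩ := witA_ok
    have h0 : Fi22.ρ g (pn 0) = pn 0 := by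
      have hy := alphaA_pt.equiv hg (pn 0)
      rw [pn_val (by norm_num : (0 : Nat) < 3510), Nat.eq_of_beq_eq_true h00] at hy
      set y := Fi22.ρ g (pn 0) with hydef
      have h1 := of_allBelow hall y.val y.2
      rw [show Nat.beq (fAA y.val) y.val = true from Nat.beq_eq.mpr hy, cond_true] at h1
      cases hz : Nat.beq y.val 0 with
      | true => exact Fin.ext ((Nat.eq_of_beq_eq_true hz).trans (pn_val (by norm_num)).symm)
      | false =>
        exfalso
        rw [hz, cond_false] at h1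
        obtain ⟨p, hp, hpe⟩ := List.mem_map.1 (mem'_iff.1 h1)
        have h2 := allList_iff.mp hwit p hp
        simp only [cond_false_eq_true] at h2
        obtain ⟨hw, hwg, hl, hlg, hwf, hnc⟩ := h2
        have hokw : Ok p.2 := ⟨Nat.ble_eq.mp hw, hwg⟩
        have hok1 : Ok p.1 := ⟨Nat.ble_eq.mp hl, hlg⟩
        have hgi : g⁻¹ ∈ fixSub alphaA := inv_mem hg
        have hy' := alphaA_pt.equiv hgi (pn p.2)
        rw [pn_val hokw.1, Nat.eq_of_beq_eq_true hwf] at hy'
        have h3 := of_allBelow hcom (Fi22.ρ g⁻¹ (pn p.2)).val (Fin.isLt _)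
        rw [show Nat.beq (fAA (Fi22.ρ g⁻¹ (pn p.2)).val) (Fi22.ρ g⁻¹ (pn p.2)).val = true from
          Nat.beq_eq.mpr hy', cond_true] at h3
        have h4 := (fixes_iff ok_zero (Fin.isLt _)).1 h3
        have e : ∀ i : Fin 3510, pn i.val = i := fun i => Fin.ext (pn_val i.2)
        rw [dd, dd, e] at h4
        have h5 := congrArg (fun z => g * z * g⁻¹) h4
        rw [show ∀ a b : Cfsg.Spor.Fi22, g * (a * b) * g⁻¹ = (g * a * g⁻¹) * (g * b * g⁻¹) from
          fun a b => by group, show ∀ a b : Cfsg.Spor.Fi22, g * (a * b) * g⁻¹ = (g * a * g⁻¹) * (g * b * g⁻¹) from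
          fun a b => by group, Fi22Out.cls.conj_dT, Fi22Out.cls.conj_dT, ← Equiv.Perm.mul_apply,
          ← map_mul, mul_inv_cancel, map_one, Equiv.Perm.one_apply] at h5
        have h6 : dd p.1 * dd p.2 = dd p.2 * dd p.1 := by
          have ey : Fi22.ρ g (pn 0) = pn p.1 := by
            rw [← hydef]; exact Fin.ext (hpe.symm.trans (pn_val hok1.1).symm)
          rw [ey] at h5
          exact h5
        rw [(fixes_iff hok1 hokw.1).2 h6] at hnc
        exact Bool.noConfusion hnc
    have hc : g * dd ptA = dd ptA * g := by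
      rw [ptA_facts.1]; exact (Fi22Out.cls.comm_dT_iff g _).2 h0
    refine Subgroup.mem_inf.2 ⟨?_, Subgroup.mem_centralizer_singleton_iff.2 hc⟩
    have h : alpha (dd ptA * g * (dd ptA)⁻¹) = g := hg
    rwa [← hc, mul_inv_cancel_right] at h
  · obtain ⟨h1, h2⟩ := Subgroup.mem_inf.1 hg
    show alpha (dd ptA * g * (dd ptA)⁻¹) = g
    rw [← Subgroup.mem_centralizer_singleton_iff.1 h2, mul_inv_cancel_right]
    exact h1

theorem fix_alphaA_eq : fixSub alphaA = I₀ ⊓ pstab Fi22.ρ (pn 0) := by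
  rw [fix_alphaA, fixSub_alpha]
  ext g
  rw [Subgroup.mem_inf, Subgroup.mem_inf, Subgroup.mem_centralizer_singleton_iff, mem_pstab, ptA_facts.1]
  exact and_congr_right fun _ => Fi22Out.cls.comm_dT_iff g _

theorem orbA_ok : allList (fun p : Nat × List Nat =>
    cond (p.2.all fun i => Nat.ble (Nat.add i 1) 9) (Nat.beq (p.2.foldl (fun x i => sv (Fi22O8.nine.getD i 0) x) 0) p.1)
      false) orbA = true ∧ (orbA.map Prod.fst).Nodup ∧ 181 ≤ orbA.length := by
  decide +kernel

theorem orbit_lower : 181 ≤ (orb Fi22.ρ I₀ (pn 0)).ncard := by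
  obtain ⟨hch, hnd, hlen⟩ := orbA_ok
  have key : ∀ (l : List Nat) (x : Nat), (∀ i ∈ l, i < 9) → x < 3510 → pn x ∈ orb Fi22.ρ I₀ (pn 0) →
      pn (l.foldl (fun x i => sv (Fi22O8.nine.getD i 0) x) x) ∈ orb Fi22.ρ I₀ (pn 0) ∧
        l.foldl (fun x i => sv (Fi22O8.nine.getD i 0) x) x < 3510 := by
    intro l
    induction l with
    | nil => intro x _ hx hm; exact ⟨hm, hx⟩
    | cons i l ih =>
      intro x hl hx hm
      have hi : Fi22O8.nine.getD i 0 ∈ Fi22O8.nine := by
        rw [List.getD_eq_getElem _ _ (show i < Fi22O8.nine.length from hl i (by simp))]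
        exact List.getElem_mem _
      refine ih _ (fun j hj => hl j (List.mem_cons_of_mem _ hj)) (sv_lt (ok_nine hi) hx) ?_
      obtain ⟨g, hg, e⟩ := hm
      exact ⟨dd (Fi22O8.nine.getD i 0) * g, mul_mem (dd_mem_I₀ hi) hg, by
        rw [map_mul, Equiv.Perm.mul_apply, e, dd_act_pn (ok_nine hi) hx]⟩
  have hsub : (pn '' {x | x ∈ orbA.map Prod.fst}) ⊆ orb Fi22.ρ I₀ (pn 0) := by
    rintro _ ⟨x, hx, rfl⟩
    obtain ⟨p, hp, rfl⟩ := List.mem_map.1 hx
    have h := allList_iff.mp hch p hp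
    rw [cond_false_eq_true] at h
    rw [← Nat.eq_of_beq_eq_true h.2]
    exact (key p.2 0 (fun i hi => Nat.ble_eq.mp (List.all_eq_true.mp h.1 i hi)) (by norm_num)
      (self_mem_orb I₀ _)).1
  refine le_trans ?_ (Set.ncard_le_ncard hsub (Set.toFinite _))
  rw [Set.InjOn.ncard_image, show {x | x ∈ orbA.map Prod.fst} = ((orbA.map Prod.fst).toFinset : Set Nat) by
    ext; simp, Set.ncard_coe_finset, List.toFinset_card_of_nodup hnd, List.length_map]
  · exact hlen
  · intro x hx y hy e
    have lt : ∀ x ∈ orbA.map Prod.fst, x < 3510 := fun x hx => by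
      obtain ⟨p, hp, rfl⟩ := List.mem_map.1 hx
      have h := allList_iff.mp hch p hp
      rw [cond_false_eq_true] at h
      rw [← Nat.eq_of_beq_eq_true h.2]
      exact (key p.2 0 (fun i hi => Nat.ble_eq.mp (List.all_eq_true.mp h.1 i hi)) (by norm_num)
        (self_mem_orb I₀ _)).2
    have := congrArg Fin.val e
    rwa [pn_val (lt x hx), pn_val (lt y hy)] at this

theorem rootsA_ok : allList (fun x => cond (mem' centSData.F x) (fixes 0 x) false) rootsA = true ∧
    rootsA.length = 7 ∧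
    ∀ i j : Fin 7, (if CoxeterMatrix.E₇ i j = 2 then fixes (rootsA.getD i.1 0) (rootsA.getD j.1 0)
      else if CoxeterMatrix.E₇ i j = 3 then !fixes (rootsA.getD i.1 0) (rootsA.getD j.1 0) else true) = true := by
  decide +kernel

theorem ok_rootA (i : Fin 7) : rootsA.getD i.1 0 ∈ centSData.F ∧ fixes 0 (rootsA.getD i.1 0) = true := by
  obtain ⟨h, hl, -⟩ := rootsA_ok
  have hm : rootsA.getD i.1 0 ∈ rootsA := by
    rw [List.getD_eq_getElem _ _ (lt_of_lt_of_eq i.2 hl.symm)]; exact List.getElem_mem _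
  have h' := allList_iff.mp h _ hm
  rw [cond_false_eq_true] at h'
  exact ⟨mem'_iff.1 h'.1, h'.2⟩

theorem rootA_mem (i : Fin 7) : dd (rootsA.getD i.1 0) ∈ fixSub alphaA ∧ Commute (dd ptA) (dd (rootsA.getD i.1 0)) := by
  obtain ⟨hF, hfx⟩ := ok_rootA i
  obtain ⟨hok, hf⟩ := ok_F hF
  have hc : Commute (dd ptA) (dd (rootsA.getD i.1 0)) := ptA_facts.1 ▸ (fixes_iff ok_zero hok.1).1 hfx
  refine ⟨?_, hc⟩
  rw [fix_alphaA]
  refine Subgroup.mem_inf.2 ⟨?_, Subgroup.mem_centralizer_singleton_iff.2 hc.symm.eq⟩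
  show alpha _ = _
  rw [alpha_pt.act _ hok.1, hf]

theorem zmod_two : ∀ x : ZMod 2, x = 0 ∨ x = 1 := by decide

theorem two_elem : ∀ x : Multiplicative (ZMod 2), x = 1 ∨ x = Multiplicative.ofAdd (1 : ZMod 2) := by decide

theorem sp6_iso_pSp : Nonempty (Spn (ZMod 2) 3 ≃* Cfsg.PSp 3 (ZMod 2)) := by
  have hZ : Subgroup.center (Spn (ZMod 2) 3) = ⊥ := by
    haveI : CharP (ZMod 2) 2 := ZMod.charP 2
    rw [← Subgroup.card_eq_one, CfsgLib.Symp.card_center, Nat.card_zmod]
    rfl
  exact ⟨MulEquiv.ofBijective (QuotientGroup.mk' (Subgroup.center (Spn (ZMod 2) 3)))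
    ⟨(MonoidHom.ker_eq_bot_iff _).1 (by rw [QuotientGroup.ker_mk', hZ]), QuotientGroup.mk'_surjective _⟩⟩

theorem fix_alphaA_iso : Nonempty (↥(fixSub alphaA) ≃* Multiplicative (ZMod 2) × Cfsg.PSp 3 (ZMod 2)) ∧
    Nat.card (fixSub alphaA) = 2903040 := by
  haveI := Fi22.card_le.1
  set C := fixSub alphaA
  -- the symplectic part
  let f : Fin 7 → ↥C := fun i => ⟨dd (rootsA.getD i.1 0), (rootA_mem i).1⟩
  have hfix : ∀ i j : Fin 7, fixes (rootsA.getD i.1 0) (rootsA.getD j.1 0) = true ↔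
      dd (rootsA.getD i.1 0) * dd (rootsA.getD j.1 0) = dd (rootsA.getD j.1 0) * dd (rootsA.getD i.1 0) :=
    fun i j => fixes_iff (ok_F (ok_rootA i).1).1 (ok_F (ok_rootA j).1).1.1
  obtain ⟨Φ, hΦ⟩ := SpSixMult.exists_lift f (fun i => Subtype.ext (dd_sq _))
    (fun i j h => Subtype.ext ((hfix i j).1 (by have p := rootsA_ok.2.2 i j; rwa [if_pos h] at p)))
    (fun i j h => Subtype.ext (dd_braid (fun q => by
      have p := rootsA_ok.2.2 i j
      rw [if_neg (by omega), if_pos h, (hfix i j).2 q] at p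
      exact Bool.noConfusion p)))
  obtain ⟨φ, hφs, hφ⟩ := SpSixMult.exists_phi (F := ZMod 2) zmod_two
  set W' := commutator SpSixMult.W
  haveI : CharP (ZMod 2) 2 := ZMod.charP 2
  have hperf : commutator (Spn (ZMod 2) 3) = ⊤ := SpMult.perfect_spn 3 (by norm_num) (Or.inl le_rfl)
  let φ' : ↥W' →* Spn (ZMod 2) 3 := φ.comp W'.subtype
  have hφ's : Function.Surjective φ' := fun g => by
    have hg : g ∈ W'.map φ := by
      rw [Schur.map_commutator_of_surjective φ hφs, hperf]; exact Subgroup.mem_top g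
    obtain ⟨w, hw, e⟩ := hg
    exact ⟨⟨w, hw⟩, e⟩
  have hbij : Function.Bijective φ' := by
    refine (Nat.bijective_iff_surjective_and_card φ').2 ⟨hφ's, le_antisymm ?_ ?_⟩
    · rw [SpSixMult.card_sp6 zmod_two]; exact SpSixMult.card_commutator_W
    · exact Nat.card_le_card_of_surjective _ hφ's
  obtain ⟨eP⟩ := sp6_iso_pSp
  let eW : ↥W' ≃* Spn (ZMod 2) 3 := MulEquiv.ofBijective φ' hbij
  haveI : IsSimpleGroup ↥W' := by
    haveI : IsSimpleGroup (Cfsg.PSp 3 (ZMod 2)) := Cfsg.Agent.S0270.result 3 (by norm_num) (by norm_num)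
    exact MulEquiv.isSimpleGroup (eW.trans eP)
  have hc1 : dd ptA ∈ C := by
    rw [show C = fixSub alpha ⊓ _ from fix_alphaA]
    exact Subgroup.mem_inf.2 ⟨alpha_ddA, Subgroup.mem_centralizer_singleton_iff.2 rfl⟩
  let z : ↥C := ⟨dd ptA, hc1⟩
  have hz2 : z * z = 1 := Subtype.ext (dd_sq _)
  let ζ : Multiplicative (ZMod 2) →* ↥C :=
    { toFun := fun x => if x = 1 then 1 else z
      map_one' := if_pos rfl
      map_mul' := fun x y => by
        rcases two_elem x with rfl | rfl <;> rcases two_elem y with rfl | rfl <;>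
          simp [hz2, show (Multiplicative.ofAdd (1 : ZMod 2)) * Multiplicative.ofAdd (1 : ZMod 2) = 1 from rfl] }
  have hcen : ∀ c : ↥C, Commute z c := fun c => by
    have h : (c : Cfsg.Spor.Fi22) ∈ fixSub alpha ⊓ Subgroup.centralizer ({dd ptA} : Set Cfsg.Spor.Fi22) :=
      (le_of_eq fix_alphaA) c.2
    exact Subtype.ext (Subgroup.mem_centralizer_singleton_iff.1 (Subgroup.mem_inf.1 h).2).symm
  have hcomm : ∀ x (w : ↥W'), Commute (ζ x) (Φ.comp W'.subtype w) := fun x w => by
    rcases two_elem x with rfl | rfl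
    · rw [map_one]; exact Commute.one_left _
    · exact hcen _
  let ψ : Multiplicative (ZMod 2) × ↥W' →* ↥C := MonoidHom.noncommCoprod ζ (Φ.comp W'.subtype) hcomm
  have hW'inj : Function.Injective (Φ.comp W'.subtype) := by
    rw [← MonoidHom.ker_eq_bot_iff]
    refine ((Φ.comp W'.subtype).normal_ker.eq_bot_or_eq_top).resolve_right fun e => ?_
    have hk : ∀ a b : SpSixMult.W, Φ a * Φ b = Φ b * Φ a := fun a b => by
      have hm : a * b * a⁻¹ * b⁻¹ ∈ W' :=
        Subgroup.commutator_mem_commutator (Subgroup.mem_top a) (Subgroup.mem_top b)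
      have hker : Φ (a * b * a⁻¹ * b⁻¹) = 1 :=
        (e ▸ Subgroup.mem_top _ : (⟨_, hm⟩ : ↥W') ∈ (Φ.comp W'.subtype).ker)
      rw [map_mul, map_mul, map_mul, map_inv, map_inv, mul_inv_eq_one, mul_inv_eq_iff_eq_mul] at hker
      exact hker
    have h02 := congrArg Subtype.val (hk (SpSixMult.s 0) (SpSixMult.s 2))
    rw [hΦ, hΦ] at h02
    have hp := rootsA_ok.2.2 0 2
    rw [if_neg (by decide), if_pos (by decide), (hfix 0 2).2 h02] at hp
    exact Bool.noConfusion hp
  have hψ : Function.Injective ψ := by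
    rw [injective_iff_map_eq_one]
    rintro ⟨x, w⟩ e
    change ζ x * Φ.comp W'.subtype w = 1 at e
    rcases two_elem x with rfl | rfl
    · rw [map_one, one_mul, ← map_one (Φ.comp W'.subtype)] at e
      rw [hW'inj e]; rfl
    · exfalso
      have hne : Multiplicative.ofAdd (1 : ZMod 2) ≠ 1 := by decide
      have ez : ζ (Multiplicative.ofAdd (1 : ZMod 2)) = z :=
        show (if Multiplicative.ofAdd (1 : ZMod 2) = 1 then (1 : ↥C) else z) = z from if_neg hne
      have hw : w ∈ Subgroup.center ↥W' := Subgroup.mem_center_iff.2 fun v => hW'inj (by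
        have hi : Φ.comp W'.subtype w = z⁻¹ := eq_inv_of_mul_eq_one_right (ez ▸ e)
        rw [map_mul, map_mul, hi]
        exact ((hcen _).inv_left).symm.eq)
      have hbot : Subgroup.center ↥W' = ⊥ := by
        refine (inferInstance : (Subgroup.center ↥W').Normal).eq_bot_or_eq_top.resolve_right fun et => ?_
        have hcm : ∀ a b : ↥W', a * b = b * a := fun a b =>
          (Subgroup.mem_center_iff.1 (et ▸ Subgroup.mem_top a : a ∈ Subgroup.center ↥W') b).symm
        have hsp : Subgroup.center (Spn (ZMod 2) 3) = ⊤ := eq_top_iff.2 fun g _ =>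
          Subgroup.mem_center_iff.2 fun k => by
            obtain ⟨a, rfl⟩ := eW.surjective g
            obtain ⟨b, rfl⟩ := eW.surjective k
            rw [← map_mul, ← map_mul, hcm]
        have hone : commutator (Spn (ZMod 2) 3) = ⊥ := (commutator_eq_bot_iff_center_eq_top _).2 hsp
        rw [hperf] at hone
        have := congrArg (fun S : Subgroup (Spn (ZMod 2) 3) => Nat.card S) hone
        simp only [Subgroup.card_top, Subgroup.card_bot, SpSixMult.card_sp6 zmod_two] at this
        omega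
      rw [hbot, Subgroup.mem_bot] at hw
      rw [ez, hw, map_one, mul_one] at e
      have := congrArg Subtype.val e
      exact absurd ((Fi22Out.cls.orderOf_dT (pn ptA)).symm.trans ((congrArg orderOf this).trans orderOf_one))
        (by norm_num)
  have hle : 2903040 ≤ Nat.card C := by
    refine le_trans (le_of_eq ?_) (Nat.card_le_card_of_injective ψ hψ)
    rw [Nat.card_prod, Nat.card_congr eW.toEquiv, SpSixMult.card_sp6 zmod_two,
      show Nat.card (Multiplicative (ZMod 2)) = 2 from Nat.card_zmod 2]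
  have hmul := card_orb_mul (ρ := Fi22.ρ) I₀ (pn 0)
  rw [show (I₀ ⊓ pstab Fi22.ρ (pn 0) : Subgroup _) = C from fix_alphaA_eq.symm, card_I₀] at hmul
  have hub : (orb Fi22.ρ I₀ (pn 0)).ncard ≤ 360 := (ncard_le_list (l := Fi22O8.pts) (by
    rintro j ⟨g, hg, rfl⟩
    exact I₀_pts hg _ (by rw [pn_val (by norm_num)]; exact zero_mem_pts))).trans (le_of_eq rfl)
  have hlb := orbit_lower
  have hdvd : 2903040 ∣ Nat.card C := by
    have hd := Subgroup.card_dvd_of_injective ψ hψ
    rwa [Nat.card_prod, Nat.card_congr eW.toEquiv, SpSixMult.card_sp6 zmod_two,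
      show Nat.card (Multiplicative (ZMod 2)) = 2 from Nat.card_zmod 2] at hd
  have hcard : Nat.card C = 2903040 := by
    obtain ⟨m, hm⟩ := hdvd
    rcases Nat.lt_or_ge m 2 with h | h
    · interval_cases m <;> omega
    · exfalso
      have := Nat.mul_le_mul hlb (show 2903040 * 2 ≤ Nat.card C by omega)
      omega
  have hb : Function.Bijective ψ := (Nat.bijective_iff_injective_and_card ψ).2 ⟨hψ, by
    rw [hcard, Nat.card_prod, Nat.card_congr eW.toEquiv, SpSixMult.card_sp6 zmod_two,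
      show Nat.card (Multiplicative (ZMod 2)) = 2 from Nat.card_zmod 2]⟩
  exact ⟨⟨(MulEquiv.ofBijective ψ hb).symm.trans (MulEquiv.prodCongr (MulEquiv.refl _) (eW.trans eP))⟩, hcard⟩

end CfsgLib.Coset.Fi22Inv
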