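import Mathlib

/-!
Data for the fixed points of the third outer involution: a basis of its core as products of fixed
transpositions, and the vectors of the seven base transpositions.
-/

set_option autoImplicit false
set_option maxRecDepth 100000

namespace CfsgLib.Coset.Fi22Inv

/-- The six basis elements, as products of fixed transpositions. -/
def basO : List (List Nat) := [[0, 233, 244, 1191], [0, 233, 274, 1995], [0, 233, 341, 1219], [0, 233, 373, 988], [0, 233], [2798, 3479]]

/-- The vectors of the base transpositions, as numbers. -/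
def uAB : List Nat := [14, 56, 35, 36, 44, 11, 28]

/-- Chains of reflections reaching the non-singular vectors. -/
def nsCh : List (List Nat) := [[0], [1], [2], [3], [4], [5], [6], [0, 1], [0, 4], [0, 5], [0, 6], [1, 4], [1, 5], [2, 3], [2, 5], [2, 6], [3, 5], [4, 6], [0, 4, 5], [0, 5, 2], [0, 5, 3], [0, 5, 6], [0, 6, 2], [1, 4, 5], [1, 5, 2], [2, 5, 6], [2, 6, 4], [0, 4, 5, 1], [0, 4, 5, 2], [0, 4, 5, 3], [1, 4, 5, 2], [2, 5, 6, 4], [0, 4, 5, 1, 2], [0, 4, 5, 2, 6], [1, 4, 5, 2, 6], [0, 4, 5, 1, 2, 5]]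

/-- Chains from the base to the points of the basis elements. -/
def basCh : List (Nat × List Nat) := [(0, [2, 5, 6, 3]), (233, [1, 5, 2]), (244, [0, 4, 5, 3, 6]), (274, [0, 6]), (341, [3, 6, 4]), (373, [1, 3, 2, 4, 5]), (988, [2, 5, 6, 4]), (1191, [0, 4, 5, 1]), (1219, [1, 4]), (1995, [0, 1, 3]), (2798, [1, 4, 5, 2, 6]), (3479, [1, 3, 2, 4, 5, 1])]

end CfsgLib.Coset.Fi22Inv
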