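import Cfsg.Agent.Coset.Fi22Inv.CentA
import Cfsg.Agent.Coset.Fi22Inv.CentABData
import Cfsg.Agent.Spor3T.MinusSixAut
import Cfsg.Agent.Quad.Reflect
import Cfsg.Prelude.Def_Transfer

/-!
The third outer involution: its fixed points are an elementary abelian group of order 64 extended by the
orthogonal group of minus type in dimension six over two elements.
-/

set_option autoImplicit false
set_option linter.style.haveILetI false
set_option maxRecDepth 100000
set_option Elab.async false

namespace CfsgLib.Coset.Fi22Inv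

open CfsgLib.Coset CfsgLib.Coset.TransOut Fi22 Fi22O8

/-- The index set of the form. -/
abbrev I6 : Type := (Fin 2 ⊕ Fin 2) ⊕ Fin 2

/-- The space. -/
abbrev V6 : Type := I6 → ZMod 2

/-- The indices in order. -/
def ix6 : List I6 := [.inl (.inl 0), .inl (.inl 1), .inl (.inr 0), .inl (.inr 1), .inr 0, .inr 1]

/-- The vector of a number. -/
def vn (c : Nat) : V6 := fun i => if c.testBit (ix6.idxOf i) then 1 else 0

/-- The form. -/
noncomputable abbrev Q6 : QuadraticForm (ZMod 2) V6 := Quad.minusQ (F := ZMod 2) 2 1 1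

/-- The form as a function. -/
abbrev q6 : V6 → ZMod 2 := Cfsg.quadFormMinus 2 (ZMod 2) 1 1

theorem Q6_coe : ⇑Q6 = q6 := Quad.minusQ_coe 2 1 1

/-- A reflection, computed. -/
def rf (u x : V6) : V6 := x + (q6 (x + u) + q6 x + q6 u) • u

theorem refl_eq_rf {u : V6} (hu : q6 u = 1) (x : V6) : (Quad.refl Q6 u).1 x = rf u x := by
  rw [Quad.refl_apply, rf, QuadraticMap.polar, Q6_coe, hu]
  congr 1
  congr 1
  have h : ∀ a b : ZMod 2, -(1 : ZMod 2) * (a - b - 1) = a + b + 1 := by decide
  rw [inv_one]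
  exact h _ _

/-- A product indexed by some positions. -/
noncomputable def pv {G : Type*} [Monoid G] (e : I6 → G) (l : List I6) (v : V6) : G :=
  (l.map fun i => if v i = 1 then e i else 1).prod

theorem pv_add {G : Type*} [Monoid G] (e : I6 → G) (hc : ∀ i j, Commute (e i) (e j))
    (h2 : ∀ i, e i * e i = 1) : ∀ (l : List I6) (v w : V6), pv e l (v + w) = pv e l v * pv e l w
  | [], _, _ => by simp [pv]
  | i :: l, v, w => by
    have hl : ∀ j, Commute (pv e l v) (e j) := fun j => by
      have : ∀ l : List I6, Commute (pv e l v) (e j) := fun l => by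
        induction l with
        | nil => exact Commute.one_left _
        | cons k l ih =>
          show Commute ((if v k = 1 then e k else 1) * pv e l v) (e j)
          refine Commute.mul_left ?_ ih
          split_ifs
          exacts [hc k j, Commute.one_left _]
      exact this l
    show (if (v + w) i = 1 then e i else 1) * pv e l (v + w) =
      ((if v i = 1 then e i else 1) * pv e l v) * ((if w i = 1 then e i else 1) * pv e l w)
    rw [pv_add e hc h2 l v w]
    rcases zmod_two (v i) with hv | hv <;> rcases zmod_two (w i) with hw | hw <;>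
      simp only [Pi.add_apply, hv, hw, add_zero, zero_add, if_neg (zero_ne_one : (0 : ZMod 2) ≠ 1),
        if_pos, one_mul, show (1 : ZMod 2) + 1 = 0 from rfl]
    · rw [← mul_assoc (pv e l v), (hl i).eq, mul_assoc]
    · rw [mul_assoc]
    · rw [← mul_assoc (e i * pv e l v), mul_assoc (e i), (hl i).eq, ← mul_assoc, h2, one_mul]

theorem basO_ok : allList (fun l => allList (fun x => cond (Nat.ble (Nat.add x 1) 3510) (good Top.Tb Top.Par 9 x) false) l) basO = true ∧
    basO.length = 6 ∧ uAB.length = 7 ∧ centABData.bs.length = 7 := by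
  decide +kernel

theorem ok_basO {l : List Nat} (hl : l ∈ basO) {x : Nat} (hx : x ∈ l) : Ok x :=
  ok_of_all (allList_iff.mp basO_ok.1 l hl) hx

/-- The points of a basis element. -/
def bO (i : I6) : List Nat := basO.getD (ix6.idxOf i) []

theorem bO_mem (i : I6) : bO i ∈ basO := by
  have h : ix6.idxOf i < 6 := by revert i; decide
  rw [bO, List.getD_eq_getElem _ _ (lt_of_lt_of_eq h basO_ok.2.1.symm)]
  exact List.getElem_mem _

/-- The word of an element of the core. -/
noncomputable def oW (v : V6) : List Nat := ix6.flatMap fun i => if v i = 1 then prodWord (bO i) else []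

/-- Two words agree on the base. -/
noncomputable def eqB (u w : List Nat) : Bool :=
  cond (checkLetters 9 [u]) (cond (checkLetters 9 [w])
    (allList (fun b => Nat.beq (follow (tget Top.Tb) b u) (follow (tget Top.Tb) b w)) (U62.base.map Fin.val)) false) false

theorem ev_eq_of_eqB {u w : List Nat} (h : eqB u w = true) : ev Lg u = ev Lg w := by
  simp only [eqB, cond_false_eq_true] at h
  exact U62.eq_of_base h.1 h.2.1 h.2.2

theorem ev_ne_of_eqB {u w : List Nat} (hu : checkLetters 9 [u] = true) (hw : checkLetters 9 [w] = true)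
    (h : eqB u w = false) : ev Lg u ≠ ev Lg w := fun e => by
  have : eqB u w = true := by
    simp only [eqB, cond_false_eq_true]
    refine ⟨hu, hw, allList_iff.mpr fun b hb => ?_⟩
    obtain ⟨c, -, rfl⟩ := List.mem_map.1 hb
    have h1 := Fi22.matches_ρ.follow_eq u c (letters_lt (len_Lg.symm ▸ hu) u (by simp))
    rw [e, Fi22.matches_ρ.follow_eq w c (letters_lt (len_Lg.symm ▸ hw) w (by simp))] at h1
    rw [Nat.beq_eq]; exact h1.symm
  rw [h] at this
  exact Bool.noConfusion this

theorem oW_checks : (∀ i j : I6, eqB (prodWord (bO i ++ bO j)) (prodWord (bO j ++ bO i)) = true) ∧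
    (∀ i : I6, eqB (prodWord (bO i ++ bO i)) [] = true) ∧
    ∀ v : V6, v ≠ 0 → checkLetters 9 [oW v] = true ∧ eqB (oW v) [] = false := by
  decide +kernel

/-- The basis of the core. -/
noncomputable def eO (i : I6) : Cfsg.Spor.Fi22 := ((bO i).map dd).prod

theorem eO_ev (i : I6) : eO i = ev Lg (prodWord (bO i)) := dd_prod fun _ hx => ok_basO (bO_mem i) hx

theorem eO_comm (i j : I6) : Commute (eO i) (eO j) := by
  show eO i * eO j = eO j * eO i
  rw [eO_ev, eO_ev, ← ev_append, ← ev_append]
  have h := ev_eq_of_eqB (oW_checks.1 i j)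
  simpa only [prodWord, List.flatMap_append] using h

theorem eO_sq (i : I6) : eO i * eO i = 1 := by
  rw [eO_ev, ← ev_append, ← ev_nil (L := Lg)]
  have h := ev_eq_of_eqB (oW_checks.2.1 i)
  simpa only [prodWord, List.flatMap_append] using h

/-- The element of a vector. -/
noncomputable def iota (v : V6) : Cfsg.Spor.Fi22 := pv eO ix6 v

theorem iota_add (v w : V6) : iota (v + w) = iota v * iota w := pv_add eO eO_comm eO_sq _ v w

theorem iota_zero : iota 0 = 1 := by simp [iota, pv]

theorem iota_ev (v : V6) : iota v = ev Lg (oW v) := by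
  unfold iota oW pv
  induction ix6 with
  | nil => simp
  | cons i l ih =>
    rw [List.map_cons, List.prod_cons, List.flatMap_cons, ev_append, ih]
    congr 1
    split_ifs
    · exact eO_ev i
    · simp

theorem iota_inj : Function.Injective iota := by
  intro v w e
  by_contra hne
  have hs : v + w ≠ 0 := fun h => hne (funext fun i => by
    have h2 : ∀ a b : ZMod 2, a + b = 0 → a = b := by decide
    exact h2 _ _ (congrFun h i))
  obtain ⟨hl, hb⟩ := oW_checks.2.2 _ hs
  refine ev_ne_of_eqB hl (by decide +kernel) hb ?_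
  rw [← iota_ev, iota_add, e, ← iota_add, ev_nil, show w + w = 0 from funext fun i => by
    have h2 : ∀ a : ZMod 2, a + a = 0 := by decide
    exact h2 _, iota_zero]

/-- The elements acting on the core as isometries. -/
noncomputable def actSub : Subgroup Cfsg.Spor.Fi22 where
  carrier := {g | ∃ r : Quad.oGroup Q6, ∀ v, g * iota v * g⁻¹ = iota (r.1 v)}
  one_mem' := ⟨1, fun v => by simp⟩
  mul_mem' := by
    rintro a b ⟨r, hr⟩ ⟨r', hr'⟩
    refine ⟨r * r', fun v => ?_⟩
    rw [show a * b * iota v * (a * b)⁻¹ = a * (b * iota v * b⁻¹) * a⁻¹ by group, hr', hr]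
    rfl
  inv_mem' := by
    rintro a ⟨r, hr⟩
    refine ⟨r⁻¹, fun v => ?_⟩
    have h := hr ((r⁻¹).1 v)
    rw [show r.1 ((r⁻¹).1 v) = v from r.1.apply_symm_apply v] at h
    rw [← h]
    group

/-- The isometry of an element. -/
noncomputable def theta : ↥actSub →* Quad.oGroup Q6 where
  toFun g := g.2.choose
  map_one' := Subtype.ext (LinearEquiv.ext fun v => iota_inj (by
    rw [← (1 : ↥actSub).2.choose_spec v]
    simp))
  map_mul' a b := Subtype.ext (LinearEquiv.ext fun v => iota_inj (by
    rw [← (a * b).2.choose_spec v]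
    show _ = iota (a.2.choose.1 (b.2.choose.1 v))
    rw [← a.2.choose_spec, ← b.2.choose_spec, Subgroup.coe_mul]
    group))

theorem theta_spec (g : ↥actSub) (v : V6) : g.1 * iota v * g.1⁻¹ = iota ((theta g).1 v) := g.2.choose_spec v

theorem span_basis : ∀ v : V6, ((ix6.filter fun i => v i = 1).map fun i => Pi.single i (1 : ZMod 2)).sum = v := by
  decide +kernel

theorem forall_of_basis {P : V6 → Prop} (h0 : P 0) (ha : ∀ v w, P v → P w → P (v + w))
    (hb : ∀ i, P (Pi.single i 1)) (v : V6) : P v := by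
  rw [← span_basis v]
  generalize (ix6.filter fun i => v i = 1) = l
  induction l with
  | nil => exact h0
  | cons i l ih => rw [List.map_cons, List.sum_cons]; exact ha _ _ (hb i) ih

/-- The vector of a base transposition. -/
def uV (k : Fin 7) : V6 := vn (uAB.getD k.1 0)

/-- The base transposition. -/
def bAB (k : Fin 7) : Nat := centABData.bs.getD k.1 0

theorem bs_checks : (∀ k : Fin 7, q6 (uV k) = 1 ∧ (cond (Nat.ble (Nat.add (bAB k) 1) 3510) (good Top.Tb Top.Par 9 (bAB k)) false) = true ∧
    ∀ i : I6, eqB (prodWord ([bAB k] ++ bO i ++ [bAB k])) (oW (rf (uV k) (Pi.single i 1))) = true) := by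
  decide +kernel

theorem ok_bAB (k : Fin 7) : Ok (bAB k) := by
  have h := (bs_checks k).2.1
  rw [cond_false_eq_true] at h
  exact ⟨Nat.ble_eq.mp h.1, h.2⟩

theorem bAB_act (k : Fin 7) (v : V6) :
    dd (bAB k) * iota v * (dd (bAB k))⁻¹ = iota ((Quad.refl Q6 (uV k)).1 v) := by
  obtain ⟨hq, -, hw⟩ := bs_checks k
  refine forall_of_basis (P := fun v => dd (bAB k) * iota v * (dd (bAB k))⁻¹ = iota ((Quad.refl Q6 (uV k)).1 v))
    (by simp [iota_zero]) (fun v w hv hw => ?_) (fun i => ?_) v
  · rw [iota_add, map_add, iota_add, ← hv, ← hw]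
    group
  · rw [refl_eq_rf hq, iota_ev (rf _ _), ← ev_eq_of_eqB (hw i), ← dd_prod (fun x hx => by
      simp only [List.mem_append, List.mem_singleton] at hx
      rcases hx with (rfl | hx) | rfl
      exacts [ok_bAB k, ok_basO (bO_mem i) hx, ok_bAB k]), List.map_append, List.map_append,
      List.prod_append, List.prod_append, List.map_singleton, List.prod_singleton, dd_inv]
    congr 2
    have hs : ∀ j, (if (Pi.single i 1 : V6) j = 1 then eO j else 1) = if j = i then eO j else 1 := fun j => by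
      by_cases h : j = i
      · subst h; simp
      · simp [Pi.single_eq_of_ne h, h]
    show pv eO ix6 _ = eO i
    simp only [pv, hs]
    have hix : ∀ i : I6, i ∈ ix6 ∧ ix6.Nodup := fun i => ⟨by rcases i with (j | j) | j <;> fin_cases j <;> simp [ix6], by decide⟩
    have key : ∀ l : List I6, l.Nodup → i ∈ l → (l.map fun j => if j = i then eO j else 1).prod = eO i := by
      intro l
      induction l with
      | nil => intro _ h; simp at h
      | cons j l ih =>
        intro hn hm
        rw [List.nodup_cons] at hn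
        rw [List.map_cons, List.prod_cons]
        rcases List.mem_cons.1 hm with rfl | hm'
        · rw [if_pos rfl]
          have hone : ((l.map fun j => if j = i then eO j else 1)).prod = 1 := by
            refine List.prod_eq_one fun x hx => ?_
            obtain ⟨j, hj, rfl⟩ := List.mem_map.1 hx
            exact if_neg fun (e : j = i) => hn.1 (e ▸ hj)
          rw [hone, mul_one]
        · rw [if_neg (fun (e : j = i) => hn.1 (e ▸ hm')), one_mul, ih hn.2 hm']
    exact key _ (hix i).2 (hix i).1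

/-- The subgroup generated by the base transpositions. -/
noncomputable def HAB : Subgroup Cfsg.Spor.Fi22 := Subgroup.closure (Set.range fun k => dd (bAB k))

theorem HAB_le : HAB ≤ actSub := (Subgroup.closure_le _).2 (by
  rintro _ ⟨k, rfl⟩
  exact ⟨_, bAB_act k⟩)

/-- The homomorphism to the orthogonal group. -/
noncomputable def thetaH : ↥HAB →* Quad.oGroup Q6 := theta.comp (Subgroup.inclusion HAB_le)

theorem thetaH_gen (k : Fin 7) :
    thetaH ⟨dd (bAB k), Subgroup.subset_closure ⟨k, rfl⟩⟩ = Quad.refl Q6 (uV k) := by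
  refine Subtype.ext (LinearEquiv.ext fun v => iota_inj ?_)
  rw [← bAB_act k v]
  exact (theta_spec _ v).symm

/-- The end of a chain of reflections. -/
def nsEnd : List Nat → V6
  | [] => 0
  | i :: rest => rest.foldl (fun x k => rf (vn (uAB.getD k 0)) x) (vn (uAB.getD i 0))

theorem ns_checks : (∀ v : V6, q6 v = 1 → v ∈ nsCh.map nsEnd) ∧
    (nsCh.all fun l => !l.isEmpty && l.all fun i => Nat.ble (Nat.add i 1) 7) = true := by
  decide +kernel

theorem thetaH_surj : Function.Surjective thetaH := by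
  rw [← MonoidHom.range_eq_top, eq_top_iff, ← Quad.reflGroup_eq_top
    (Quad.minusQ_nondeg (F := ZMod 2) (by decide) 2) (Or.inr (by simp [Module.finrank_fintype_fun_eq_card])),
    Quad.reflGroup, Subgroup.closure_le]
  rintro _ ⟨d, rfl⟩
  rcases zmod_two (q6 d) with h | h
  · have e : Quad.refl Q6 d = 1 := Subtype.ext (LinearEquiv.ext fun x => by
      rw [Quad.refl_apply, Q6_coe, h, inv_zero, neg_zero, zero_mul, zero_smul, add_zero]; rfl)
    rw [e]; exact one_mem _
  · obtain ⟨l, hl, rfl⟩ := List.mem_map.1 (ns_checks.1 d h)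
    have hl' := List.all_eq_true.mp ns_checks.2 l hl
    rw [Bool.and_eq_true] at hl'
    cases l with
    | nil => simp at hl'
    | cons i rest =>
      have hk : ∀ m, m < 7 → q6 (vn (uAB.getD m 0)) = 1 ∧ Quad.refl Q6 (vn (uAB.getD m 0)) ∈ thetaH.range :=
        fun m hm => ⟨(bs_checks ⟨m, hm⟩).1, _, thetaH_gen ⟨m, hm⟩⟩
      have hlt : ∀ m ∈ i :: rest, m < 7 := fun m hm => by
        have := Nat.ble_eq.mp (List.all_eq_true.mp hl'.2 m hm)
        simp only [Nat.add_eq] at this
        omega
      show Quad.refl Q6 (rest.foldl (fun x k => rf (vn (uAB.getD k 0)) x) (vn (uAB.getD i 0))) ∈ thetaH.range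
      suffices ∀ (rest : List Nat) (x : V6), (∀ m ∈ rest, m < 7) → Quad.refl Q6 x ∈ thetaH.range →
          Quad.refl Q6 (rest.foldl (fun x k => rf (vn (uAB.getD k 0)) x) x) ∈ thetaH.range from
        this rest _ (fun m hm => hlt m (List.mem_cons_of_mem _ hm)) (hk i (hlt i List.mem_cons_self)).2
      intro rest
      induction rest with
      | nil => intro x _ hx; exact hx
      | cons m rest ih =>
        intro x hm hx
        obtain ⟨hq, hr⟩ := hk m (hm m List.mem_cons_self)
        refine ih _ (fun j hj => hm j (List.mem_cons_of_mem _ hj)) ?_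
        show Quad.refl Q6 (rf (vn (uAB.getD m 0)) x) ∈ thetaH.range
        rw [← refl_eq_rf hq, ← Quad.refl_conj]
        exact mul_mem (mul_mem hr hx) (inv_mem hr)

/-- The core. -/
noncomputable def coreO : Subgroup Cfsg.Spor.Fi22 where
  carrier := Set.range iota
  one_mem' := ⟨0, iota_zero⟩
  mul_mem' := by rintro _ _ ⟨v, rfl⟩ ⟨w, rfl⟩; exact ⟨v + w, iota_add v w⟩
  inv_mem' := by
    rintro _ ⟨v, rfl⟩
    refine ⟨v, eq_inv_of_mul_eq_one_left ?_⟩
    rw [← iota_add, show v + v = 0 from funext fun i => by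
      have h2 : ∀ a : ZMod 2, a + a = 0 := by decide
      exact h2 _, iota_zero]

theorem card_coreO : Nat.card coreO = 64 := by
  have e : Nat.card coreO = Nat.card V6 :=
    (Nat.card_congr (Equiv.ofInjective iota iota_inj)).symm
  rw [e, Nat.card_eq_fintype_card]
  rfl

theorem coreO_elem : Cfsg.IsElementaryAbelian 2 coreO := by
  refine ⟨⟨⟨fun a b => ?_⟩⟩, fun a ha => ?_⟩
  · obtain ⟨_, v, rfl⟩ := a
    obtain ⟨_, w, rfl⟩ := b
    exact Subtype.ext (show iota v * iota w = iota w * iota v by rw [← iota_add, ← iota_add, add_comm])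
  · obtain ⟨v, rfl⟩ := ha
    rw [pow_two, ← iota_add, show v + v = 0 from funext fun i => by
      have h2 : ∀ a : ZMod 2, a + a = 0 := by decide
      exact h2 _, iota_zero]

theorem basCh_ok : chainsOK centABData.bs basCh = true ∧
    allList (allList (mem' (basCh.map Prod.fst))) basO = true := by
  decide +kernel

theorem bs_mem_HAB {b : Nat} (hb : b ∈ centABData.bs) : Ok b ∧ dd b ∈ HAB := by
  obtain ⟨i, hi, rfl⟩ := List.mem_iff_getElem.1 hb
  have hk : bAB ⟨i, basO_ok.2.2.2 ▸ hi⟩ = centABData.bs[i] := List.getD_eq_getElem _ _ hi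
  rw [← hk]
  exact ⟨ok_bAB _, Subgroup.subset_closure ⟨_, rfl⟩⟩

theorem coreO_le : coreO ≤ HAB := by
  have hb : ∀ i, eO i ∈ HAB := fun i => by
    refine Subgroup.list_prod_mem _ fun z hz => ?_
    obtain ⟨x, hx, rfl⟩ := List.mem_map.1 hz
    obtain ⟨p, hne, hp, rfl⟩ := chainsOK_spec basCh_ok.1
      (mem'_iff.1 (allList_iff.mp (allList_iff.mp basCh_ok.2 _ (bO_mem i)) x hx))
    exact (chain_mem (P := fun z => z ∈ HAB) (fun g hg => (bs_mem_HAB hg).1) (fun g hg => (bs_mem_HAB hg).2)
      (fun g hg z hz => mul_mem (mul_mem (bs_mem_HAB hg).2 hz) (inv_mem (bs_mem_HAB hg).2)) hne hp).2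
  rintro _ ⟨v, rfl⟩
  refine Subgroup.list_prod_mem _ fun z hz => ?_
  obtain ⟨i, -, rfl⟩ := List.mem_map.1 hz
  split_ifs
  exacts [hb i, one_mem _]

theorem ptB_facts : fA ptB = ptB ∧ (cond (Nat.ble (Nat.add ptB 1) 3510) (good Top.Tb Top.Par 9 ptB) false) = true ∧
    fixes 0 ptB = true ∧ Nat.beq ptB 0 = false ∧
    allList (fun b => Nat.beq (fA (sv 0 (sv ptB b))) b) centABData.bs = true := by
  decide +kernel

theorem ok_ptB : Ok ptB := by
  have h := ptB_facts.2.1
  rw [cond_false_eq_true] at h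
  exact ⟨Nat.ble_eq.mp h.1, h.2⟩

/-- The third involution. -/
noncomputable def alphaAB : MulAut Cfsg.Spor.Fi22 := alpha * MulAut.conj (dd ptA * dd ptB)

/-- Its action on the points. -/
noncomputable def fAB (x : Nat) : Nat := fA (sv ptA (sv ptB x))

theorem alphaAB_pt : PtAut alphaAB fAB := by
  have h := ptAut_mul (ptAut_mul alpha_pt (ptA_facts.1 ▸ ok_zero : Ok ptA)) ok_ptB
  rw [alphaAB, map_mul, ← mul_assoc]
  exact h

theorem alphaAB_out : alphaAB ∉ Cfsg.Inn Cfsg.Spor.Fi22 := fun h => by
  refine alpha_not_inner ?_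
  have := mul_mem h (inv_mem (⟨dd ptA * dd ptB, rfl⟩ : MulAut.conj (dd ptA * dd ptB) ∈ Cfsg.Inn Cfsg.Spor.Fi22))
  rwa [alphaAB, mul_inv_cancel_right] at this

theorem centAB_check : centABData.check fAB = true := by decide +kernel

theorem card_oQ6 : Nat.card (Quad.oGroup Q6) = 51840 := by
  have := Quad.card_oGroup_minus (F := ZMod 2) (q := 2) (a := 1) (b := 1) (by simp) (by decide) 2
  norm_num [Finset.prod_range_succ] at this
  exact_mod_cast this

theorem HAB_le_fix : HAB ≤ fixSub alphaAB := by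
  refine (Subgroup.closure_le _).2 ?_
  rintro _ ⟨k, rfl⟩
  show alphaAB (dd (bAB k)) = dd (bAB k)
  have hm : bAB k ∈ centABData.bs := by
    rw [bAB, List.getD_eq_getElem _ _ (lt_of_lt_of_eq k.2 basO_ok.2.2.2.symm)]; exact List.getElem_mem _
  rw [alphaAB_pt.act _ (ok_bAB k).1]
  congr 1
  have h := allList_iff.mp ptB_facts.2.2.2.2 _ hm
  show fA (sv ptA (sv ptB (bAB k))) = bAB k
  rw [ptA_facts.1]
  exact Nat.eq_of_beq_eq_true h

theorem thetaH_core {x : ↥HAB} (hx : (x : Cfsg.Spor.Fi22) ∈ coreO) : thetaH x = 1 := by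
  refine Subtype.ext (LinearEquiv.ext fun v => iota_inj ?_)
  obtain ⟨w, hw⟩ := hx
  rw [thetaH, MonoidHom.comp_apply, ← theta_spec]
  show (x : Cfsg.Spor.Fi22) * iota v * (x : Cfsg.Spor.Fi22)⁻¹ = iota v
  rw [← hw, mul_inv_eq_iff_eq_mul, ← iota_add, ← iota_add, add_comm]

theorem fix_alphaAB : fixSub alphaAB = HAB ∧ Nat.card HAB = 3317760 ∧
    thetaH.ker = coreO.subgroupOf HAB := by
  haveI := Fi22.card_le.1
  have hker : coreO.subgroupOf HAB ≤ thetaH.ker := fun x hx => thetaH_core hx
  have hcore : Nat.card (coreO.subgroupOf HAB) = 64 := by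
    rw [Nat.card_congr (Subgroup.subgroupOfEquivOfLe coreO_le).toEquiv, card_coreO]
  have hcard := thetaH.ker.card_mul_index
  rw [Subgroup.index_ker, MonoidHom.range_eq_top.2 thetaH_surj, Subgroup.card_top, card_oQ6] at hcard
  have h64 : 64 ≤ Nat.card thetaH.ker := hcore ▸ Nat.card_le_card_of_injective _ (Subgroup.inclusion_injective hker)
  have hle := centABData.card_le alphaAB_pt alphaAB_out centAB_check (P := 3317760) (by decide)
  have hle2 : Nat.card HAB ≤ Nat.card (fixSub alphaAB) :=
    Nat.card_le_card_of_injective _ (Subgroup.inclusion_injective HAB_le_fix)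
  have hk : Nat.card thetaH.ker = 64 :=
    le_antisymm (Nat.le_of_mul_le_mul_right (c := 51840)
      (hcard.le.trans ((hle2.trans hle).trans (le_of_eq (by norm_num)))) (by norm_num)) h64
  have hH : Nat.card HAB = 3317760 := by rw [← hcard, hk]
  exact ⟨(Subgroup.eq_of_le_of_card_ge HAB_le_fix (hle.trans hH.ge)).symm, hH,
    (Subgroup.eq_of_le_of_card_ge hker (by rw [hk, hcore])).symm⟩

theorem card_fix_alphaAB : Nat.card (fixSub alphaAB) = 3317760 := by
  rw [fix_alphaAB.1, fix_alphaAB.2.1]

theorem normal_core : (coreO.subgroupOf HAB).Normal := fix_alphaAB.2.2 ▸ inferInstance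

theorem core_quot :
    ∃ h : (coreO.subgroupOf HAB).Normal,
      Nonempty (↥HAB ⧸ coreO.subgroupOf HAB ≃* Cfsg.isometryGroup (ZMod 2) (Cfsg.quadFormMinus 2 (ZMod 2) 1 1)) := by
  haveI := normal_core
  refine ⟨inferInstance, ?_⟩
  rw [← Quad.minusQ_coe]
  exact ⟨((QuotientGroup.quotientMulEquivOfEq fix_alphaAB.2.2.symm).trans
    (QuotientGroup.quotientKerEquivOfSurjective thetaH thetaH_surj)).trans (Quad.isoGroupEquiv Q6).symm⟩

theorem no_normal_two {M : Subgroup ↥(Cfsg.isometryGroup (ZMod 2) (Cfsg.quadFormMinus 2 (ZMod 2) 1 1))}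
    (hM : M.Normal) (h2 : IsPGroup 2 M) : M = ⊥ := by
  haveI : Fintype (GaloisField 2 2) := Fintype.ofFinite _
  have hF : Fintype.card (GaloisField 2 2) = 4 := by
    rw [← Nat.card_eq_fintype_card, GaloisField.card 2 2 (by norm_num)]; rfl
  obtain ⟨e⟩ := ThreeT.PairStab.minus_six_aut hF
  obtain ⟨hc, hs⟩ := ThreeT.PairStab.card_psu_four hF
  haveI : Finite (Cfsg.PSU 4 (GaloisField 2 2) 2) := Nat.finite_of_card_ne_zero (by rw [hc]; norm_num)
  haveI := hs
  have hnp : ¬ IsPGroup 2 (Cfsg.PSU 4 (GaloisField 2 2) 2) := fun h => by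
    haveI : Fact (2 : ℕ).Prime := ⟨Nat.prime_two⟩
    obtain ⟨k, hk⟩ := h.exists_card_eq
    rw [hc] at hk
    have h3 : 3 ∣ 2 ^ k := hk ▸ (by norm_num)
    have := Nat.Prime.dvd_of_dvd_pow Nat.prime_three h3
    norm_num at this
  have hz : Subgroup.center (Cfsg.PSU 4 (GaloisField 2 2) 2) = ⊥ := by
    refine (inferInstance : (Subgroup.center (Cfsg.PSU 4 (GaloisField 2 2) 2)).Normal).eq_bot_or_eq_top.resolve_right
      fun et => ?_
    letI : CommGroup (Cfsg.PSU 4 (GaloisField 2 2) 2) :=
      { (inferInstance : Group (Cfsg.PSU 4 (GaloisField 2 2) 2)) with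
        mul_comm := fun a b => (Subgroup.mem_center_iff.1 (et ▸ Subgroup.mem_top a) b).symm }
    have hp := IsSimpleGroup.prime_card (α := Cfsg.PSU 4 (GaloisField 2 2) 2)
    rw [hc] at hp
    norm_num at hp
  have h := ThreeT.PairStab.normal_two_bot hnp hz (hM.map e.toMonoidHom e.surjective) (h2.map _)
  exact (Subgroup.map_eq_bot_iff_of_injective _ e.injective).1 h

theorem pCore_fix_alphaAB : coreO = (Cfsg.pCore 2 ↥HAB).map HAB.subtype := by
  haveI := Fi22.card_le.1
  haveI : Fact (2 : ℕ).Prime := ⟨Nat.prime_two⟩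
  haveI := normal_core
  have h2 : IsPGroup 2 (coreO.subgroupOf HAB) :=
    IsPGroup.of_card (n := 6) (by rw [Nat.card_congr (Subgroup.subgroupOfEquivOfLe coreO_le).toEquiv, card_coreO]; rfl)
  obtain ⟨_, ⟨e⟩⟩ := core_quot
  have hcore : Cfsg.pCore 2 ↥HAB = coreO.subgroupOf HAB := by
    refine le_antisymm (sSup_le fun N ⟨hN, hN2⟩ => ?_) (le_sSup ⟨inferInstance, h2⟩)
    have hb := no_normal_two (M := N.map (e.toMonoidHom.comp (QuotientGroup.mk' _)))
      (hN.map _ (e.surjective.comp (QuotientGroup.mk'_surjective _))) (hN2.map _)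
    intro x hx
    have hx' : e (QuotientGroup.mk' (coreO.subgroupOf HAB) x) = 1 :=
      Subgroup.mem_bot.1 (hb ▸ Subgroup.mem_map_of_mem _ hx)
    rw [← QuotientGroup.eq_one_iff]
    exact e.injective (hx'.trans (map_one e).symm)
  rw [hcore, Subgroup.subgroupOf_map_subtype, inf_eq_left.2 coreO_le]

end CfsgLib.Coset.Fi22Inv
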