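import Cfsg.Agent.Coset.Fi22Inv.FixBases

/-!
The fixed points of the outer involution are the automorphism group of `Ω⁺₈(2)`.
-/

set_option autoImplicit false
set_option linter.style.haveILetI false
set_option maxRecDepth 100000
set_option Elab.async false

namespace CfsgLib.Coset.Fi22Inv

open CfsgLib.Coset CfsgLib.Coset.TransOut Fi22 Fi22O8

theorem centS_check : centSData.check fA = true := by decide +kernel

theorem nine_fixed : allList (fun x => Nat.beq (fA x) x) Fi22O8.nine = true := by decide +kernel

theorem I₀_le : I₀ ≤ fixSub alpha := by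
  refine (Subgroup.closure_le _).2 ?_
  rintro _ ⟨x, hx, rfl⟩
  show alpha (dd x) = dd x
  rw [alpha_pt.act x (ok_nine hx).1, Nat.eq_of_beq_eq_true (allList_iff.mp nine_fixed x hx)]

theorem fixSub_alpha : fixSub alpha = I₀ := by
  haveI := Fi22.card_le.1
  refine (Subgroup.eq_of_le_of_card_ge I₀_le ?_).symm
  rw [card_I₀]
  exact centSData.card_le alpha_pt alpha_not_inner centS_check (by decide)

theorem card_fix_alpha : Nat.card (fixSub alpha) = 6 * 174182400 := by
  rw [fixSub_alpha, card_I₀]

theorem fix_alpha_iso :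
    Nonempty (↥(fixSub alpha) ≃* MulAut ↥(Cfsg.Omega (ZMod 2) (Cfsg.quadFormPlus 4 (ZMod 2)))) := by
  rw [fixSub_alpha]; exact I₀_iso

end CfsgLib.Coset.Fi22Inv
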