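import Cfsg.Agent.Coset.Fi22Inv.Series

/-!
The outer involutions of the presented Fischer group fall into three classes.
-/

set_option autoImplicit false
set_option linter.style.haveILetI false
set_option maxRecDepth 100000
set_option Elab.async false

namespace CfsgLib.Coset.Fi22Inv

open CfsgLib.Coset CfsgLib.Coset.TransOut Fi22 Fi22O8

/-- The extension of a representative by one bit. -/
noncomputable def extR (k i : Nat) (e : Bool) : List Nat :=
  (repT.getD k []).getD i [] ++ cond e [k] []

/-- The certificate of an extension. -/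
noncomputable def certOf (k i : Nat) (e : Bool) : Bool × List Nat × Nat :=
  (certT.getD k []).getD (2 * i + cond e 1 0) (false, [], 0)

/-- The part up to a level. -/
noncomputable def lowPart (k : Nat) (l : List Nat) : List Nat := l.filter fun x => Nat.ble x k

/-- The part above a level. -/
noncomputable def highPart (k : Nat) (l : List Nat) : List Nat := l.filter fun x => !Nat.ble x k

/-- The leading generator lies in the level, the others after it. -/
noncomputable def leadOK (k : Nat) : List Nat → Bool
  | [] => false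
  | j :: t => cond (Nat.ble j k) (allList (fun x => Nat.ble (Nat.add j 1) x) t) false

/-- Two normal forms agree up to a level. -/
noncomputable def agreeOK (k : Nat) (X Y : List Nat) : Bool :=
  (X == lowPart k X ++ highPart k X) && (Y == lowPart k Y ++ highPart k Y) && (lowPart k X == lowPart k Y)

/-- One extension. -/
noncomputable def extOK (k i : Nat) (e : Bool) : Bool :=
  cond (certOf k i e).1
    (Nat.ble (Nat.add (certOf k i e).2.2 1) (repT.getD (k + 1) []).length &&
      agreeOK k (nfP ((certOf k i e).2.1 ++ extR k i e))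
        (nfP ((repT.getD (k + 1) []).getD (certOf k i e).2.2 [] ++ aR (certOf k i e).2.1)))
    (leadOK k (nfP (extR k i e ++ aR (extR k i e))))

theorem steps_check : allBelow 5 17 (fun k =>
    allBelow 6 (repT.getD k []).length fun i => extOK k i false && extOK k i true) = true := by
  decide +kernel

theorem high_mem {k : Nat} (l : List Nat) : prP (highPart k l) ∈ Qs (k + 1) := prP_mem fun x hx => by
  have h := (List.mem_filter.1 hx).2
  rw [Bool.not_eq_true'] at h
  by_contra q
  rw [show Nat.ble x k = true from Nat.ble_eq.mpr (by omega)] at h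
  exact Bool.noConfusion h

theorem inv_of_leadOK {k : Nat} (hk : k < 17) {l : List Nat} (h : leadOK k l = true) : prP l ∉ Qs (k + 1) := by
  cases l with
  | nil => exact Bool.noConfusion h
  | cons j t =>
    rw [leadOK, cond_false_eq_true] at h
    have hj : j ≤ k := Nat.ble_eq.mp h.1
    intro hm
    rw [prP_cons] at hm
    have ht : prP t ∈ Qs (j + 1) := prP_mem fun x hx => Nat.ble_eq.mp (allList_iff.mp h.2 x hx)
    have := mul_mem (Qs_mono (by omega : j + 1 ≤ k + 1) hm) (inv_mem ht)
    rw [mul_inv_cancel_right] at this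
    exact eP_not_mem (by omega) this

/-- The twisted involutions are equivalent to representatives modulo a level. -/
def Level (k : Nat) : Prop :=
  ∀ p ∈ Qs 0, p * alpha p = 1 → ∃ i < (repT.getD k []).length, ∃ w ∈ Qs 0, ∃ q ∈ Qs k,
    w * p * (alpha w)⁻¹ = prP ((repT.getD k []).getD i []) * q

theorem level_zero : Level 0 := fun p hp _ =>
  ⟨0, Nat.one_pos, 1, one_mem _, p, hp, by simp [repT, prP]⟩

theorem twist_invol {p w : Cfsg.Spor.Fi22} (hp : p * alpha p = 1) :
    (w * p * (alpha w)⁻¹) * alpha (w * p * (alpha w)⁻¹) = 1 := by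
  have ha : alpha (alpha w) = w := DFunLike.congr_fun alpha_sq w
  rw [map_mul, map_mul, map_inv, ha, show w * p * (alpha w)⁻¹ * (alpha w * alpha p * w⁻¹) =
    w * (p * alpha p) * w⁻¹ by group, hp, mul_one, mul_inv_cancel]

theorem level_succ {k : Nat} (hk : k < 17) (h : Level k) : Level (k + 1) := by
  intro p hp hinv
  obtain ⟨i, hi, w, hw, q, hq, he⟩ := h p hp hinv
  have hP : ∀ {m}, (Qs m : Subgroup Cfsg.Spor.Fi22) ≤ Qs 0 := fun {m} => Qs_mono (Nat.zero_le m)
  -- split off the next generator
  obtain ⟨e, q', hq', hsplit⟩ : ∃ (e : Bool) (q' : Cfsg.Spor.Fi22), q' ∈ Qs (k + 1) ∧ q = prP (cond e [k] []) * q' := by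
    rcases Qs_cases hq with hq1 | hq1
    · exact ⟨false, q, hq1, by simp [prP]⟩
    · exact ⟨true, _, hq1, by simp [prP]⟩
  have he' : w * p * (alpha w)⁻¹ = prP (extR k i e) * q' := by
    rw [he, hsplit, extR, prP_append, mul_assoc]
  have hext : extOK k i e = true := by
    have h' := of_allBelow (of_allBelow steps_check k hk) i hi
    rw [Bool.and_eq_true] at h'
    cases e
    exacts [h'.1, h'.2]
  cases hc : (certOf k i e).1 with
  | false =>
    exfalso
    rw [extOK, hc, cond_false] at hext
    refine inv_of_leadOK hk hext ?_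
    rw [prP_nfP, prP_append, ← alpha_prP]
    have h2 := twist_invol (w := w) hinv
    rw [he', map_mul] at h2
    have h3 : prP (extR k i e) * q' * (alpha (prP (extR k i e)) * alpha q') = 1 := h2
    rw [mul_eq_one_iff_eq_inv', mul_inv_rev, ← eq_mul_inv_iff_mul_eq] at h3
    rw [h3, ← mul_assoc, ← mul_assoc]
    exact mul_mem (conj_mem (prP_mem fun x _ => Nat.zero_le x) (inv_mem hq')) (inv_mem (alpha_Qs hq'))
  | true =>
    rw [extOK, hc, cond_true, Bool.and_eq_true] at hext
    obtain ⟨hlt, hag⟩ := hext
    simp only [agreeOK, Bool.and_eq_true, beq_iff_eq] at hag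
    obtain ⟨⟨hX, hY⟩, hlow⟩ := hag
    set v := (certOf k i e).2.1
    set i' := (certOf k i e).2.2
    set r' := extR k i e
    set r'' := (repT.getD (k + 1) []).getD i' []
    set X := nfP (v ++ r') with hXdef
    set Y := nfP (r'' ++ aR v) with hYdef
    have hXe : prP v * prP r' = prP (lowPart k X) * prP (highPart k X) := by
      rw [← prP_append, ← prP_append, ← hX, hXdef, prP_nfP]
    have hYe : prP r'' * alpha (prP v) = prP (lowPart k X) * prP (highPart k Y) := by
      rw [alpha_prP, ← prP_append, hlow, ← prP_append, ← hY, hYdef, prP_nfP]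
    have hv : prP v ∈ Qs 0 := prP_mem fun x _ => Nat.zero_le x
    refine ⟨i', Nat.ble_eq.mp hlt, prP v * w, mul_mem hv hw,
      alpha (prP v) * ((prP (highPart k Y))⁻¹ * prP (highPart k X) * q') * (alpha (prP v))⁻¹,
      conj_mem (alpha_Qs hv) (mul_mem (mul_mem (inv_mem (high_mem Y)) (high_mem X)) hq'), ?_⟩
    rw [map_mul, show prP v * w * p * (alpha (prP v) * alpha w)⁻¹ =
      prP v * (w * p * (alpha w)⁻¹) * (alpha (prP v))⁻¹ by group, he',
      show prP v * (prP r' * q') * (alpha (prP v))⁻¹ = (prP v * prP r') * q' * (alpha (prP v))⁻¹ by group, hXe,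
      show prP r'' = (prP r'' * alpha (prP v)) * (alpha (prP v))⁻¹ by group, hYe]
    group

theorem level_last : Level 17 := by
  have : ∀ k, k ≤ 17 → Level k := by
    intro k
    induction k with
    | zero => intro _; exact level_zero
    | succ k ih => intro hk; exact level_succ (by omega) (ih (by omega))
  exact this 17 le_rfl

/-- The image of a point under the chosen representative. -/
noncomputable def repAct (j y : Nat) : Nat :=
  cond (Nat.beq j 0) y (cond (Nat.beq j 1) (sv ptA y) (sv ptA (sv ptB y)))

/-- The chosen representative. -/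
noncomputable def repEl (j : Nat) : Cfsg.Spor.Fi22 :=
  cond (Nat.beq j 0) 1 (cond (Nat.beq j 1) (dd ptA) (dd ptA * dd ptB))

/-- The fusion of one representative. -/
noncomputable def finOK (i : Nat) : Bool :=
  cond (checkLetters 9 [(finT.getD i ([], 0)).1])
    (allList (fun b => Nat.beq
      (follow (tget Top.Tb) b ((finT.getD i ([], 0)).1 ++ wordP ((repT.getD 17 []).getD i [])).reverse)
      (repAct (finT.getD i ([], 0)).2 (fA (follow (tget Top.Tb) (fA b) (finT.getD i ([], 0)).1.reverse))))
      (U62.base.map Fin.val)) false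

theorem fin_check : allBelow 5 (repT.getD 17 []).length finOK = true := by decide +kernel

theorem repEl_act (j : Nat) (y : Fin 3510) : (Fi22.ρ (repEl j) y).val = repAct j y.val := by
  have hA : Ok ptA := ptA_facts.1 ▸ ok_zero
  rw [repEl, repAct]
  cases Nat.beq j 0 <;> cases Nat.beq j 1 <;> simp only [cond_true, cond_false, map_one, map_mul,
    Equiv.Perm.one_apply, Equiv.Perm.mul_apply, dd_act hA, dd_act ok_ptB]

theorem conj_alpha_conj (w p : Cfsg.Spor.Fi22) :
    MulAut.conj w * (MulAut.conj p * alpha) * (MulAut.conj w)⁻¹ = MulAut.conj (w * p * (alpha w)⁻¹) * alpha := by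
  refine MulEquiv.ext fun x => ?_
  simp only [MulAut.mul_apply, MulAut.conj_apply, MulAut.conj_inv_apply, map_mul, map_inv, mul_inv_rev, inv_inv]

/-- Every twisted involution is equivalent to one of three. -/
theorem classes {p : Cfsg.Spor.Fi22} (hp : p ∈ Qs 0) (hinv : p * alpha p = 1) :
    ∃ j, IsConj (MulAut.conj p * alpha) (MulAut.conj (repEl j) * alpha) := by
  obtain ⟨i, hi, w, -, q, hq, he⟩ := level_last p hp hinv
  rw [Qs_last le_rfl, Subgroup.mem_bot] at hq
  rw [hq, mul_one] at he
  have h := of_allBelow fin_check i hi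
  rw [finOK, cond_false_eq_true] at h
  obtain ⟨hl, hb⟩ := h
  set u := (finT.getD i ([], 0)).1
  set j := (finT.getD i ([], 0)).2
  set r := (repT.getD 17 []).getD i []
  have hlu : checkLetters 9 [u ++ wordP r] = true := allList_iff.mpr fun x hx => by
    rw [List.mem_singleton.1 hx]
    refine allList_iff.mpr fun l hl' => ?_
    rcases List.mem_append.1 hl' with h1 | h1
    · exact Nat.ble_eq.mpr (letters_lt hl u (by simp) l h1)
    · exact Nat.ble_eq.mpr (letters_lt (wordP_letters r) _ (by simp) l h1)
  have key : ev Lg u * prP r = repEl j * alpha (ev Lg u) := eq_of_rho_base fun b hbm => Fin.ext (by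
    rw [← ev_wordP, ← ev_append, rho_ev_val hlu, map_mul, Equiv.Perm.mul_apply, repEl_act]
    have hb' : pn (fA (pn (fA b.val)).val) = b := Fin.ext (by
      rw [pn_val (alpha_pt.lt _ b.2), fA_invol b.2, pn_val b.2])
    have h3 := alpha_im (ev Lg u) (pn (fA b.val))
    rw [hb'] at h3
    rw [h3, rho_ev_val hl, pn_val (alpha_pt.lt _ b.2)]
    exact Nat.eq_of_beq_eq_true (allList_iff.mp hb b.val (List.mem_map.2 ⟨b, hbm, rfl⟩)))
  refine ⟨j, isConj_iff.2 ⟨MulAut.conj (ev Lg u) * MulAut.conj w, ?_⟩⟩
  rw [← map_mul, conj_alpha_conj, map_mul alpha, mul_inv_rev,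
    show ev Lg u * w * p * ((alpha w)⁻¹ * (alpha (ev Lg u))⁻¹) =
      ev Lg u * (w * p * (alpha w)⁻¹) * (alpha (ev Lg u))⁻¹ by group, he, key, mul_inv_cancel_right]

end CfsgLib.Coset.Fi22Inv
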