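import Cfsg.Agent.Coset.Fi22Inv.Auto

/-!
An upper bound for the fixed points of an outer involution: along a base of fixed transpositions, the
image of each base point keeps its commuting pattern with the points already fixed.
-/

set_option autoImplicit false
set_option linter.style.haveILetI false
set_option maxRecDepth 100000

namespace CfsgLib.Coset.Fi22Inv

open CfsgLib.Coset CfsgLib.Coset.TransOut Fi22 Fi22O8

/-- The data of the bound. -/
structure FixData where
  /-- the fixed points -/
  F : List Nat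
  /-- the base -/
  bs : List Nat
  /-- for each level, the fixed points used, as chains from the earlier base points -/
  Ds : List (List (Nat × List Nat))
  /-- the numbers of candidates -/
  cnt : List Nat
  /-- the point outside -/
  z : Nat
  /-- chains to the nine generating points, from the base and the outside point -/
  gch : List (Nat × List Nat)

/-- Chains with their ends. -/
noncomputable def chainsOK (gens : List Nat) (l : List (Nat × List Nat)) : Bool :=
  allList (fun p => cond (Nat.ble 1 p.2.length)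
    (cond (p.2.all fun i => Nat.ble (Nat.add i 1) gens.length) (Nat.beq (chainEnd gens p.2) p.1) false) false) l

/-- The points of a level. -/
noncomputable def FixData.D (d : FixData) (k : Nat) : List Nat := (d.Ds.getD k []).map Prod.fst

/-- The candidates of a level. -/
noncomputable def FixData.cands (d : FixData) (k : Nat) : List Nat :=
  d.F.filter fun x => cond (mem' (d.D k) x) false
    ((d.D k).all fun b => fixes b x == fixes b (d.bs.getD k 0))

/-- The checks of one level. -/
noncomputable def FixData.levOK (d : FixData) (k : Nat) : Bool :=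
  cond (chainsOK (d.bs.take k) (d.Ds.getD k []))
    (cond (allList (mem' d.F) (d.D k))
      (cond (!mem' (d.D k) (d.bs.getD k 0))
        (Nat.ble (d.cands k).length (d.cnt.getD k 0)) false) false) false

/-- All checks. -/
noncomputable def FixData.check (d : FixData) (f : Nat → Nat) : Bool :=
  cond (allList (fun x => cond (Nat.ble (Nat.add x 1) 3510) (cond (good Top.Tb Top.Par 9 x) (Nat.beq (f x) x) false) false) d.F)
    (cond (allBelow 12 3510 fun x => cond (Nat.beq (f x) x) (mem' d.F x) true)
      (cond (allList (mem' d.F) d.bs)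
        (cond (allBelow 4 d.bs.length d.levOK)
          (cond (chainsOK d.bs (d.Ds.getD d.bs.length []))
            (cond (allList (mem' d.F) (d.D d.bs.length))
              (cond (Nat.ble (Nat.add d.z 1) 3510)
                (cond (good Top.Tb Top.Par 9 d.z)
                  (cond (allBelow 12 3510 fun x =>
                      cond ((d.D d.bs.length).all fun b => fixes b x == fixes b d.z)
                        (cond (Nat.beq x d.z) true (Nat.beq x (f d.z))) true)
                    (cond (chainsOK (d.bs ++ [d.z]) d.gch)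
                      (allList (mem' (d.gch.map Prod.fst)) Fi22Out.pts) false) false) false) false)
            false) false) false) false) false) false

theorem chainsOK_spec {gens : List Nat} {l : List (Nat × List Nat)} (h : chainsOK gens l = true)
    {x : Nat} (hx : x ∈ l.map Prod.fst) :
    ∃ p : List Nat, p ≠ [] ∧ (∀ i ∈ p, i < gens.length) ∧ chainEnd gens p = x := by
  obtain ⟨p, hp, rfl⟩ := List.mem_map.1 hx
  have h' := allList_iff.mp h p hp
  simp only [cond_false_eq_true] at h'
  refine ⟨p.2, fun e => ?_, fun i hi => Nat.ble_eq.mp (List.all_eq_true.mp h'.2.1 i hi),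
    Nat.eq_of_beq_eq_true h'.2.2⟩
  rw [e] at h'
  exact absurd (Nat.ble_eq.mp h'.1) (by simp)

/-- The stabilisers along the base. -/
noncomputable def stabs (β : MulAut Cfsg.Spor.Fi22) (bs : List Nat) : Nat → Subgroup Cfsg.Spor.Fi22
  | 0 => fixSub β
  | k + 1 => stabs β bs k ⊓ pstab Fi22.ρ (pn (bs.getD k 0))

theorem stabs_spec {β : MulAut Cfsg.Spor.Fi22} {bs : List Nat} : ∀ (k : Nat) {g : Cfsg.Spor.Fi22},
    g ∈ stabs β bs k → g ∈ fixSub β ∧ ∀ i < k, Fi22.ρ g (pn (bs.getD i 0)) = pn (bs.getD i 0)
  | 0, g, hg => ⟨hg, fun i hi => absurd hi (Nat.not_lt_zero i)⟩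
  | k + 1, g, hg => by
    obtain ⟨h1, h2⟩ := Subgroup.mem_inf.1 hg
    obtain ⟨a, c⟩ := stabs_spec k h1
    refine ⟨a, fun i hi => ?_⟩
    rcases Nat.lt_succ_iff_lt_or_eq.1 hi with q | rfl
    exacts [c i q, mem_pstab.1 h2]

/-- A fixed element stabilises the chains. -/
theorem fix_chain {g : Cfsg.Spor.Fi22} {gens : List Nat} (hg : ∀ b ∈ gens, Ok b)
    (hfix : ∀ b ∈ gens, Fi22.ρ g (pn b) = pn b) {l : List Nat} (hne : l ≠ [])
    (hl : ∀ i ∈ l, i < gens.length) : Fi22.ρ g (pn (chainEnd gens l)) = pn (chainEnd gens l) := by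
  refine (Fi22Out.cls.comm_dT_iff g _).1 ?_
  have h := (agree_chain (φ := MulAut.conj g) (ψ := 1) hg (fun b hb => by
    show g * dd b * g⁻¹ = dd b
    rw [mul_inv_eq_iff_eq_mul]
    exact (Fi22Out.cls.comm_dT_iff g _).2 (hfix b hb)) hne hl).2
  exact mul_inv_eq_iff_eq_mul.1 h

theorem FixData.card_le (d : FixData) {β : MulAut Cfsg.Spor.Fi22} {f : Nat → Nat} (hp : PtAut β f)
    (hout : β ∉ Cfsg.Inn Cfsg.Spor.Fi22) (hc : d.check f = true)
    {P : Nat} (hP : ((List.range d.bs.length).map fun k => d.cnt.getD k 0).prod ≤ P) :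
    Nat.card (fixSub β) ≤ P := by
  have := Fi22.card_le.1
  simp only [FixData.check, cond_false_eq_true] at hc
  obtain ⟨hF, hall, hbs, hlev, hlast, hlastF, hz, hzg, hsep, hgch, hgen⟩ := hc
  have hFok : ∀ {x}, x ∈ d.F → Ok x ∧ f x = x := fun {x} hx => by
    have h := allList_iff.mp hF x hx
    simp only [cond_false_eq_true] at h
    exact ⟨⟨Nat.ble_eq.mp h.1, h.2.1⟩, Nat.eq_of_beq_eq_true h.2.2⟩
  have hbF : ∀ {b}, b ∈ d.bs → b ∈ d.F := fun {b} hb => mem'_iff.1 (allList_iff.mp hbs b hb)
  have hgetD : ∀ {k}, k < d.bs.length → d.bs.getD k 0 ∈ d.bs := fun {k} hk => by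
    rw [List.getD_eq_getElem _ _ hk]; exact List.getElem_mem _
  have hstay : ∀ {g}, g ∈ fixSub β → ∀ {x}, x ∈ d.F → (Fi22.ρ g (pn x)).val ∈ d.F := fun {g} hg {x} hx => by
    have h := hp.equiv hg (pn x)
    rw [pn_val (hFok hx).1.1, (hFok hx).2] at h
    have h2 := of_allBelow hall (Fi22.ρ g (pn x)).val (Fin.isLt _)
    rw [show Nat.beq (f (Fi22.ρ g (pn x)).val) (Fi22.ρ g (pn x)).val = true from Nat.beq_eq.mpr h,
      cond_true] at h2
    exact mem'_iff.1 h2
  have hfix : ∀ {g k l}, (∀ i < k, Fi22.ρ g (pn (d.bs.getD i 0)) = pn (d.bs.getD i 0)) →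
      chainsOK (d.bs.take k) l = true → ∀ x ∈ l.map Prod.fst, Fi22.ρ g (pn x) = pn x := by
    intro g k l hg hl x hx
    obtain ⟨p, hne, hp', rfl⟩ := chainsOK_spec hl hx
    refine fix_chain (fun b hb => (hFok (hbF (List.mem_of_mem_take hb))).1) (fun b hb => ?_) hne hp'
    obtain ⟨i, hi, rfl⟩ := List.mem_iff_getElem.1 hb
    rw [List.length_take] at hi
    rw [List.getElem_take, ← List.getD_eq_getElem d.bs 0 (by omega)]
    exact hg i (by omega)
  have step : ∀ k, k < d.bs.length →
      Nat.card (stabs β d.bs k) ≤ d.cnt.getD k 0 * Nat.card (stabs β d.bs (k + 1)) := by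
    intro k hk
    have h := of_allBelow hlev k hk
    simp only [FixData.levOK, cond_false_eq_true, Bool.not_eq_true'] at h
    obtain ⟨hch, hDF, hnot, hcnt⟩ := h
    rw [← card_orb_mul (ρ := Fi22.ρ) (stabs β d.bs k) (pn (d.bs.getD k 0))]
    refine Nat.mul_le_mul_right _ ((ncard_le_list (l := d.cands k) ?_).trans (Nat.ble_eq.mp hcnt))
    rintro j ⟨g, hg, rfl⟩
    obtain ⟨hgF, hgfix⟩ := stabs_spec k hg
    have hb := hbF (hgetD hk)
    refine List.mem_filter.2 ⟨hstay hgF hb, ?_⟩
    have hD : ∀ x ∈ d.D k, Fi22.ρ g (pn x) = pn x := hfix hgfix hch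
    have hlt := (hFok hb).1.1
    have hm : mem' (d.D k) (Fi22.ρ g (pn (d.bs.getD k 0))).val = false := by
      rw [Bool.eq_false_iff]
      intro e
      have hx := mem'_iff.1 e
      have h1 := hD _ hx
      rw [show pn (Fi22.ρ g (pn (d.bs.getD k 0))).val = Fi22.ρ g (pn (d.bs.getD k 0)) from
        Fin.ext (pn_val (Fin.isLt _))] at h1
      rw [(Fi22.ρ g).injective h1, pn_val hlt, ← mem'_iff, hnot] at hx
      exact Bool.noConfusion hx
    rw [hm, cond_false, List.all_eq_true]
    intro b hb'
    rw [fixes_equiv (hFok (mem'_iff.1 (allList_iff.mp hDF b hb'))).1 (hD b hb'), pn_val hlt,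
      beq_self_eq_true]
  have hbot : stabs β d.bs d.bs.length = ⊥ := by
    rw [Subgroup.eq_bot_iff_forall]
    intro g hg
    obtain ⟨hgF, hgfix⟩ := stabs_spec _ hg
    have hz' : d.z < 3510 := Nat.ble_eq.mp hz
    have hlast' : chainsOK (d.bs.take d.bs.length) (d.Ds.getD d.bs.length []) = true := by
      rw [List.take_length]; exact hlast
    have hD : ∀ x ∈ d.D d.bs.length, Fi22.ρ g (pn x) = pn x := hfix hgfix hlast'
    have hy := of_allBelow hsep (Fi22.ρ g (pn d.z)).val (Fin.isLt _)
    rw [show ((d.D d.bs.length).all fun b => fixes b (Fi22.ρ g (pn d.z)).val == fixes b d.z) = true by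
      rw [List.all_eq_true]
      intro b hb'
      rw [fixes_equiv (hFok (mem'_iff.1 (allList_iff.mp hlastF b hb'))).1 (hD b hb'), pn_val hz',
        beq_self_eq_true], cond_true] at hy
    have hgok : ∀ b ∈ d.bs ++ [d.z], Ok b := fun b hb => by
      rcases List.mem_append.1 hb with h | h
      · exact (hFok (hbF h)).1
      · rw [List.mem_singleton.1 h]; exact ⟨hz', hzg⟩
    have hbfix : ∀ b ∈ d.bs, Fi22.ρ g (pn b) = pn b := fun b hb => by
      obtain ⟨i, hi, rfl⟩ := List.mem_iff_getElem.1 hb
      rw [← List.getD_eq_getElem d.bs 0 hi]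
      exact hgfix i hi
    have key : ∀ ψ : MulAut Cfsg.Spor.Fi22, (∀ b ∈ d.bs ++ [d.z], MulAut.conj g (dd b) = ψ (dd b)) →
        MulAut.conj g = ψ := fun ψ h => Fi22Out.ext_gens fun l hl => by
      obtain ⟨hlt, e⟩ := fl_eq_dd hl
      have hm : Fi22Out.pts.getD l 0 ∈ Fi22Out.pts := by
        rw [List.getD_eq_getElem _ _ (show l < Fi22Out.pts.length from hl)]; exact List.getElem_mem _
      obtain ⟨p, hne, hp', he⟩ := chainsOK_spec hgch (mem'_iff.1 (allList_iff.mp hgen _ hm))
      rw [e, ← he]
      exact (agree_chain hgok h hne hp').2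
    have hfixb : ∀ b ∈ d.bs, MulAut.conj g (dd b) = dd b := fun b hb => by
      show g * dd b * g⁻¹ = dd b
      rw [mul_inv_eq_iff_eq_mul]
      exact (Fi22Out.cls.comm_dT_iff g _).2 (hbfix b hb)
    cases hbq : Nat.beq (Fi22.ρ g (pn d.z)).val d.z with
    | true =>
      have hgz : Fi22.ρ g (pn d.z) = pn d.z := Fin.ext ((Nat.eq_of_beq_eq_true hbq).trans (pn_val hz').symm)
      have h1 := key 1 (fun b hb => by
        rcases List.mem_append.1 hb with h | h
        · exact hfixb b h
        · rw [List.mem_singleton.1 h]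
          show g * dd d.z * g⁻¹ = dd d.z
          rw [mul_inv_eq_iff_eq_mul]
          exact (Fi22Out.cls.comm_dT_iff g _).2 hgz)
      refine Fi22Out.cls.inj ?_
      rw [map_one]
      refine Equiv.ext fun i => ?_
      exact (Fi22Out.cls.comm_dT_iff g i).1 (mul_inv_eq_iff_eq_mul.1 (DFunLike.congr_fun h1 (Fi22Out.cls.dT i)))
    | false =>
      exfalso
      rw [hbq, cond_false] at hy
      refine hout ⟨g, key β fun b hb => ?_⟩
      rcases List.mem_append.1 hb with h | h
      · rw [hfixb b h, hp.act b (hFok (hbF h)).1.1, (hFok (hbF h)).2]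
      · rw [List.mem_singleton.1 h, hp.act _ hz']
        show g * Fi22Out.cls.dT (pn d.z) * g⁻¹ = _
        rw [Fi22Out.cls.conj_dT]
        exact congrArg _ (Fin.ext ((Nat.eq_of_beq_eq_true hy).trans (pn_val (hp.lt _ hz')).symm))
  have main : ∀ k, k ≤ d.bs.length → Nat.card (fixSub β) ≤
      ((List.range k).map fun i => d.cnt.getD i 0).prod * Nat.card (stabs β d.bs k) := by
    intro k
    induction k with
    | zero => intro _; simp [stabs]
    | succ k ih =>
      intro hk
      rw [List.range_succ, List.map_append, List.prod_append, List.map_singleton, List.prod_singleton,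
        mul_assoc]
      exact (ih (by omega)).trans (Nat.mul_le_mul_left _ (step k (by omega)))
  have h := main d.bs.length le_rfl
  rw [hbot, Subgroup.card_bot, mul_one] at h
  exact h.trans hP

end CfsgLib.Coset.Fi22Inv
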