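import Cfsg.Agent.Coset.Fi22Inv.Classes

/-!
The three classes of outer involutions of the presented Fischer group.
-/

set_option autoImplicit false
set_option linter.style.haveILetI false
set_option maxRecDepth 100000
set_option Elab.async false

namespace CfsgLib.Coset.Fi22Inv

open CfsgLib.Coset CfsgLib.Coset.TransOut Fi22 Fi22O8

theorem conj_inj : Function.Injective (MulAut.conj : Cfsg.Spor.Fi22 →* MulAut Cfsg.Spor.Fi22) := by
  rw [injective_iff_map_eq_one]
  intro g hg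
  refine Fi22Out.cls.inj ?_
  rw [map_one]
  refine Equiv.ext fun i => ?_
  exact (Fi22Out.cls.comm_dT_iff g i).1 (mul_inv_eq_iff_eq_mul.1 (DFunLike.congr_fun hg (Fi22Out.cls.dT i)))

theorem inn_index : (Cfsg.Inn Cfsg.Spor.Fi22).index = 2 := Fi22Out.card_out

theorem conj_comm_alpha (p : Cfsg.Spor.Fi22) :
    alpha * MulAut.conj p = MulAut.conj (alpha p) * alpha := MulEquiv.ext fun x => by simp

theorem alpha_inv : alpha⁻¹ = alpha := inv_eq_of_mul_eq_one_right alpha_sq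

/-- The Sylow 2-subgroup of the automorphism group. -/
noncomputable def SA : Subgroup (MulAut Cfsg.Spor.Fi22) where
  carrier := {a | ∃ p ∈ Qs 0, a = MulAut.conj p ∨ a = MulAut.conj p * alpha}
  one_mem' := ⟨1, one_mem _, Or.inl (map_one _).symm⟩
  mul_mem' := by
    rintro a b ⟨p, hp, ha⟩ ⟨q, hq, hb⟩
    rcases ha with rfl | rfl <;> rcases hb with rfl | rfl
    · exact ⟨p * q, mul_mem hp hq, Or.inl (map_mul _ _ _).symm⟩
    · exact ⟨p * q, mul_mem hp hq, Or.inr (by rw [map_mul, mul_assoc])⟩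
    · exact ⟨p * alpha q, mul_mem hp (alpha_Qs hq), Or.inr (by
        rw [mul_assoc, conj_comm_alpha, map_mul, mul_assoc])⟩
    · exact ⟨p * alpha q, mul_mem hp (alpha_Qs hq), Or.inl (by
        rw [mul_assoc, ← mul_assoc alpha, conj_comm_alpha, mul_assoc _ alpha, alpha_sq, mul_one, map_mul])⟩
  inv_mem' := by
    rintro a ⟨p, hp, rfl | rfl⟩
    · exact ⟨p⁻¹, inv_mem hp, Or.inl (map_inv _ _).symm⟩
    · exact ⟨alpha p⁻¹, alpha_Qs (inv_mem hp), Or.inr (by
        rw [mul_inv_rev, alpha_inv, ← map_inv, conj_comm_alpha])⟩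

theorem finite_aut : Finite (MulAut Cfsg.Spor.Fi22) :=
  haveI := Fi22.card_le.1
  inferInstance

theorem isPGroup_SA : IsPGroup 2 SA := by
  haveI := Fi22.card_le.1
  haveI : Fact (2 : ℕ).Prime := ⟨Nat.prime_two⟩
  have hP : IsPGroup 2 (Qs 0) := IsPGroup.of_card card_Qs_zero
  have hconj : ∀ p ∈ Qs 0, (MulAut.conj p) ^ 2 ^ 17 = 1 := fun p hp => by
    have h : p ^ 2 ^ 17 = 1 := by
      have h' : (⟨p, hp⟩ : Qs 0) ^ Nat.card (Qs 0) = 1 := pow_card_eq_one'
      rw [card_Qs_zero] at h'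
      exact congrArg Subtype.val h'
    rw [← map_pow, h, map_one]
  intro x
  refine ⟨18, Subtype.ext ?_⟩
  rw [Subgroup.coe_pow, Subgroup.coe_one, pow_succ' 2 17, pow_mul]
  obtain ⟨p, hp, e | e⟩ := x.2
  · rw [e, pow_two, ← map_mul]
    exact hconj _ (mul_mem hp hp)
  · have h2 : (x : MulAut Cfsg.Spor.Fi22) ^ 2 = MulAut.conj (p * alpha p) := by
      rw [e, pow_two, mul_assoc, ← mul_assoc alpha, conj_comm_alpha, mul_assoc _ alpha, alpha_sq, mul_one, map_mul]
    rw [h2]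
    exact hconj _ (mul_mem hp (alpha_Qs hp))

theorem card_aut : Nat.card (MulAut Cfsg.Spor.Fi22) = 129123503308800 := by
  have h := (Cfsg.Inn Cfsg.Spor.Fi22).card_mul_index
  rw [inn_index, show Cfsg.Inn Cfsg.Spor.Fi22 = (MulAut.conj : Cfsg.Spor.Fi22 →* _).range from rfl,
    ← Nat.card_congr (MonoidHom.ofInjective conj_inj).toEquiv, Fi22.card_and_injective.1] at h
  exact h.symm

theorem outer_to_rep {t : MulAut Cfsg.Spor.Fi22} (ht : t * t = 1) (hout : t ∉ Cfsg.Inn Cfsg.Spor.Fi22) :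
    ∃ j, IsConj t (MulAut.conj (repEl j) * alpha) := by
  haveI := Fi22.card_le.1
  haveI := finite_aut
  haveI : Fact (2 : ℕ).Prime := ⟨Nat.prime_two⟩
  obtain ⟨S, hS⟩ := isPGroup_SA.exists_le_sylow
  have hcardS : Nat.card (S : Subgroup (MulAut Cfsg.Spor.Fi22)) = 2 ^ 18 := by
    rw [S.card_eq_multiplicity, card_aut]
    congr 1
    have hn : ¬ 2 ∣ 492567075 := by norm_num
    rw [show 129123503308800 = 2 ^ 18 * 492567075 from by norm_num,
      Nat.factorization_mul (by norm_num) (by norm_num), Finsupp.add_apply,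
      Nat.Prime.factorization_pow Nat.prime_two, Nat.factorization_eq_zero_of_not_dvd hn]
    simp
  have hsub : (MulAut.conj '' (Qs 0 : Set Cfsg.Spor.Fi22)) ∪ {alpha} ⊆ (SA : Set (MulAut Cfsg.Spor.Fi22)) := by
    rintro a (⟨p, hp, rfl⟩ | rfl)
    · exact ⟨p, hp, Or.inl rfl⟩
    · exact ⟨1, one_mem _, Or.inr (by rw [map_one, one_mul])⟩
  have hbig : 2 ^ 17 < Nat.card SA := by
    have h := Set.ncard_le_ncard hsub (Set.toFinite _)
    rw [Set.union_singleton, Set.ncard_insert_of_notMem (s := MulAut.conj '' (Qs 0 : Set Cfsg.Spor.Fi22)) (a := alpha) (fun h => by obtain ⟨p, _, e⟩ := h; exact alpha_not_inner ⟨p, e⟩) (Set.toFinite _),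
      Set.ncard_image_of_injective _ conj_inj, ← Nat.card_coe_set_eq, ← Nat.card_coe_set_eq] at h
    have e : Nat.card ↥((Qs 0 : Subgroup Cfsg.Spor.Fi22) : Set Cfsg.Spor.Fi22) = 2 ^ 17 := card_Qs_zero
    rw [e] at h
    show 2 ^ 17 < Nat.card ↥(SA : Set (MulAut Cfsg.Spor.Fi22))
    omega
  have hSA : (S : Subgroup (MulAut Cfsg.Spor.Fi22)) = SA := by
    refine (Subgroup.eq_of_le_of_card_ge hS ?_).symm
    rw [hcardS]
    obtain ⟨n, hn⟩ := isPGroup_SA.exists_card_eq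
    rw [hn] at hbig ⊢
    exact Nat.pow_le_pow_right (by norm_num) ((Nat.pow_lt_pow_iff_right (by norm_num)).1 hbig)
  -- move the involution into the Sylow subgroup
  have hz : IsPGroup 2 (Subgroup.zpowers t) := fun x => by
    obtain ⟨k, hk⟩ := Subgroup.mem_zpowers_iff.1 x.2
    refine ⟨1, Subtype.ext ?_⟩
    rw [pow_one, Subgroup.coe_pow, Subgroup.coe_one, ← hk, pow_two, ← zpow_add,
      ← two_mul, zpow_mul, zpow_two, ht, one_zpow]
  obtain ⟨T, hT⟩ := hz.exists_le_sylow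
  obtain ⟨x, hx⟩ := MulAction.exists_smul_eq (MulAut Cfsg.Spor.Fi22) T S
  have hmem : x * t * x⁻¹ ∈ SA := by
    rw [← hSA, ← hx, Sylow.coe_subgroup_smul]
    exact ⟨t, hT (Subgroup.mem_zpowers t), rfl⟩
  obtain ⟨p, hp, e | e⟩ := hmem
  · exfalso
    refine hout ?_
    haveI : (Cfsg.Inn Cfsg.Spor.Fi22).Normal := Subgroup.normal_of_index_eq_two inn_index
    have := (inferInstance : (Cfsg.Inn Cfsg.Spor.Fi22).Normal).conj_mem _
      (⟨p, rfl⟩ : MulAut.conj p ∈ Cfsg.Inn Cfsg.Spor.Fi22) x⁻¹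
    rwa [← e, inv_inv, show x⁻¹ * (x * t * x⁻¹) * x = t by group] at this
  · have h2 : (x * t * x⁻¹) * (x * t * x⁻¹) = 1 := by
      rw [show (x * t * x⁻¹) * (x * t * x⁻¹) = x * (t * t) * x⁻¹ by group, ht, mul_one, mul_inv_cancel]
    rw [e, mul_assoc, ← mul_assoc alpha, conj_comm_alpha, mul_assoc _ alpha, alpha_sq, mul_one, ← map_mul,
      ← map_one (MulAut.conj : Cfsg.Spor.Fi22 →* _)] at h2
    obtain ⟨j, hj⟩ := classes hp (conj_inj h2)
    exact ⟨j, (isConj_iff.2 ⟨x, e⟩).trans hj⟩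

theorem alpha_ddB : alpha (dd ptB) = dd ptB := by rw [alpha_pt.act _ ok_ptB.1, ptB_facts.1]

theorem repEl_cases (j : Nat) :
    MulAut.conj (repEl j) * alpha = alpha ∨ MulAut.conj (repEl j) * alpha = alphaA ∨
      MulAut.conj (repEl j) * alpha = alphaAB := by
  rw [repEl]
  cases Nat.beq j 0 <;> cases Nat.beq j 1
  · exact Or.inr (Or.inr (by rw [alphaAB, conj_comm_alpha, map_mul alpha, alpha_ddA, alpha_ddB]; rfl))
  · exact Or.inr (Or.inl (by rw [alphaA, conj_comm_alpha, alpha_ddA]; rfl))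
  · exact Or.inl (by rw [cond_true, map_one, one_mul])
  · exact Or.inl (by rw [cond_true, map_one, one_mul])

theorem outer_classes {t : MulAut Cfsg.Spor.Fi22} (ht : t * t = 1) (hout : t ∉ Cfsg.Inn Cfsg.Spor.Fi22) :
    IsConj t alpha ∨ IsConj t alphaA ∨ IsConj t alphaAB := by
  obtain ⟨j, hj⟩ := outer_to_rep ht hout
  rcases repEl_cases j with e | e | e <;> rw [e] at hj <;> tauto

theorem card_fix_of_conj {β γ : MulAut Cfsg.Spor.Fi22} (h : IsConj β γ) :
    Nat.card (fixSub β) = Nat.card (fixSub γ) := by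
  obtain ⟨x, rfl⟩ := isConj_iff.1 h
  refine Nat.card_congr ⟨fun g => ⟨x g.1, ?_⟩, fun g => ⟨x⁻¹ g.1, ?_⟩, fun g => ?_, fun g => ?_⟩
  · show x (β (x⁻¹ (x g.1))) = x g.1
    rw [MulAut.inv_apply, MulEquiv.symm_apply_apply, mem_fixSub.1 g.2]
  · have h : x (β (x⁻¹ g.1)) = g.1 := g.2
    show β (x⁻¹ g.1) = x⁻¹ g.1
    conv_rhs => rw [← h, MulAut.inv_apply, MulEquiv.symm_apply_apply]
  · exact Subtype.ext (x.symm_apply_apply _)
  · exact Subtype.ext (x.apply_symm_apply _)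

theorem not_conj : ¬ IsConj alpha alphaA ∧ ¬ IsConj alpha alphaAB ∧ ¬ IsConj alphaA alphaAB := by
  refine ⟨fun h => ?_, fun h => ?_, fun h => ?_⟩ <;> have := card_fix_of_conj h
  · rw [card_fix_alpha, fix_alphaA_iso.2] at this; omega
  · rw [card_fix_alpha, card_fix_alphaAB] at this; omega
  · rw [fix_alphaA_iso.2, card_fix_alphaAB] at this; omega

theorem orderOf_alpha : orderOf alpha = 2 :=
  orderOf_eq_prime (by rw [pow_two, alpha_sq]) fun e => alpha_not_inner (by rw [e]; exact one_mem _)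

theorem pts_facts : dd ptA ≠ dd ptB ∧ Commute (dd ptA) (dd ptB) := by
  constructor
  · intro e
    have := dd_inj (ptA_facts.1 ▸ ok_zero.1) ok_ptB.1 e
    rw [ptA_facts.1] at this
    have h := ptB_facts.2.2.2.1
    rw [← this] at h
    exact Bool.noConfusion h
  · rw [ptA_facts.1]
    exact (fixes_iff ok_zero ok_ptB.1).1 ptB_facts.2.2.1

end CfsgLib.Coset.Fi22Inv
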