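import Cfsg.Agent.Coset.Fi22Inv.CentAB
import Cfsg.Agent.Coset.Fi22Inv.TwistData

/-!
A Sylow 2-subgroup of the presented Fischer group with a normal series of length seventeen that is stable
under the outer involution, and computation with normal forms.
-/

set_option autoImplicit false
set_option linter.style.haveILetI false
set_option maxRecDepth 100000
set_option Elab.async false

namespace CfsgLib.Coset.Fi22Inv

open CfsgLib.Coset CfsgLib.Coset.TransOut Fi22 Fi22O8

/-- A word from a list of generator numbers. -/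
noncomputable def wordP (l : List Nat) : List Nat := l.flatMap fun i => gW.getD i []

/-- A generator. -/
noncomputable def eP (i : Nat) : Cfsg.Spor.Fi22 := ev Lg (gW.getD i [])

/-- A product of generators. -/
noncomputable def prP (l : List Nat) : Cfsg.Spor.Fi22 := (l.map eP).prod

/-- The conjugate of a later generator. -/
noncomputable def cR (b a : Nat) : List Nat := (conjT.getD b []).getD a []

/-- The square. -/
noncomputable def sR (a : Nat) : List Nat := sqT.getD a []

/-- The image. -/
noncomputable def aR (l : List Nat) : List Nat := l.flatMap fun i => actT.getD i []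

theorem eP_ge {i : Nat} (h : 17 ≤ i) : eP i = 1 := by
  rw [eP, List.getD_eq_default _ _ (show gW.length ≤ i from h), ev_nil]

theorem prP_cons (a : Nat) (l : List Nat) : prP (a :: l) = eP a * prP l := by
  rw [prP, List.map_cons, List.prod_cons]; rfl

theorem prP_append (l m : List Nat) : prP (l ++ m) = prP l * prP m := by
  rw [prP, List.map_append, List.prod_append]; rfl

theorem ev_wordP (l : List Nat) : ev Lg (wordP l) = prP l := by
  induction l with
  | nil => simp [wordP, prP]
  | cons a l ih => rw [wordP, List.flatMap_cons, ev_append, prP_cons, ← ih]; rfl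

theorem gW_letters : checkLetters 9 gW = true := by decide +kernel

theorem wordP_letters (l : List Nat) : checkLetters 9 [wordP l] = true := by
  refine allList_iff.mpr fun w hw => ?_
  rw [List.mem_singleton.1 hw]
  refine allList_iff.mpr fun x hx => ?_
  obtain ⟨i, -, hx⟩ := List.mem_flatMap.1 hx
  rw [Nat.ble_eq]
  show x + 1 ≤ 9
  exact letters_getD gW_letters i x hx

/-- The shape and truth of the relations of one pair. -/
noncomputable def pairOK (b a : Nat) : Bool :=
  cond (Nat.ble a b) (allList (fun x => false) (cR b a))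
    (cond (allList (Nat.ble a) (cR b a)) (eqB (wordP [a, b]) (wordP (b :: cR b a))) false)

/-- The truth of the image of one generator on the base. -/
noncomputable def actOK (a : Nat) : Bool :=
  allList (fun b => Nat.beq (fA (follow (tget Top.Tb) (fA b) (gW.getD a []).reverse))
    (follow (tget Top.Tb) b (wordP (actT.getD a [])).reverse)) (U62.base.map Fin.val)

theorem rels_ok : Nat.beq conjT.length 17 = true ∧
    allBelow 5 17 (fun b => Nat.beq (conjT.getD b []).length 17) = true ∧
    allBelow 5 17 (fun b => allBelow 5 17 (pairOK b)) = true := by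
  decide +kernel

theorem sq_ok : Nat.beq sqT.length 17 = true ∧
    allBelow 5 17 (fun a => cond (allList (fun x => Nat.ble (Nat.add a 1) x) (sR a)) (eqB (wordP [a, a]) (wordP (sR a))) false) = true := by
  decide +kernel

theorem act_ok : Nat.beq actT.length 17 = true ∧
    allBelow 5 17 (fun a => cond (allList (Nat.ble a) (actT.getD a [])) (actOK a) false) = true := by
  decide +kernel

theorem cR_facts (b a : Nat) : (b < a → eP a * eP b = eP b * prP (cR b a)) ∧ ∀ x ∈ cR b a, a ≤ x ∧ b < a := by
  have h17 : conjT.length = 17 := Nat.eq_of_beq_eq_true rels_ok.1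
  rcases Nat.lt_or_ge b 17 with hb | hb
  swap
  · have e : cR b a = [] := by rw [cR, List.getD_eq_default conjT _ (h17 ▸ hb)]; simp
    rw [e]
    exact ⟨fun h => by rw [eP_ge (by omega : 17 ≤ a), eP_ge hb]; simp [prP], by simp⟩
  have hlen : (conjT.getD b []).length = 17 := Nat.eq_of_beq_eq_true (of_allBelow rels_ok.2.1 b hb)
  rcases Nat.lt_or_ge a 17 with ha | ha
  swap
  · have e : cR b a = [] := by rw [cR, List.getD_eq_default _ _ (hlen ▸ ha)]
    rw [e]
    exact ⟨fun h => by rw [eP_ge ha]; simp [prP], by simp⟩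
  have h := of_allBelow (of_allBelow rels_ok.2.2 b hb) a ha
  rw [pairOK] at h
  cases hab : Nat.ble a b with
  | true =>
    rw [hab, cond_true] at h
    exact ⟨fun hlt => absurd (Nat.ble_eq.mp hab) (by omega), fun x hx => absurd (allList_iff.mp h x hx) (by simp)⟩
  | false =>
    rw [hab, cond_false, cond_false_eq_true] at h
    have hlt : b < a := by
      by_contra q
      rw [Nat.ble_eq.mpr (by omega : a ≤ b)] at hab
      exact Bool.noConfusion hab
    refine ⟨fun _ => ?_, fun x hx => ⟨Nat.ble_eq.mp (allList_iff.mp h.1 x hx), hlt⟩⟩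
    have e := ev_eq_of_eqB h.2
    rw [ev_wordP, ev_wordP] at e
    simpa [prP] using e

theorem sR_facts (a : Nat) : eP a * eP a = prP (sR a) ∧ ∀ x ∈ sR a, a < x := by
  have h17 : sqT.length = 17 := Nat.eq_of_beq_eq_true sq_ok.1
  rcases Nat.lt_or_ge a 17 with ha | ha
  · have h := of_allBelow sq_ok.2 a ha
    rw [cond_false_eq_true] at h
    refine ⟨?_, fun x hx => Nat.ble_eq.mp (allList_iff.mp h.1 x hx)⟩
    have e := ev_eq_of_eqB h.2
    rw [ev_wordP, ev_wordP] at e
    simpa [prP] using e
  · have e : sR a = [] := by rw [sR, List.getD_eq_default sqT _ (h17 ▸ ha)]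
    rw [e]
    exact ⟨by rw [eP_ge ha]; simp [prP], by simp⟩

theorem alpha_im (g : Cfsg.Spor.Fi22) (x : Fin 3510) :
    (Fi22.ρ (alpha g) (pn (fA x.val))).val = fA (Fi22.ρ g x).val := by
  have e : ∀ i : Fin 3510, pn i.val = i := fun i => Fin.ext (pn_val i.2)
  have h := congrArg alpha (Fi22Out.cls.conj_dT g x)
  have ha : ∀ y : Fin 3510, alpha (Fi22Out.cls.dT y) = dd (fA y.val) := fun y => by
    rw [← alpha_pt.act y.val y.2, dd, e]
  rw [map_mul, map_mul, map_inv, ha, ha] at h
  rw [dd, Fi22Out.cls.conj_dT] at h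
  have := congrArg Fin.val (Fi22Out.cls.dT_inj h)
  rwa [pn_val (alpha_pt.lt _ (Fin.isLt _))] at this

theorem fA_invol {x : Nat} (hx : x < 3510) : fA (fA x) = x := alpha_pt.invol alpha_sq hx

theorem rho_ev_val {w : List Nat} (hw : checkLetters 9 [w] = true) (b : Fin 3510) :
    (Fi22.ρ (ev Lg w) b).val = follow (tget Top.Tb) b.val w.reverse := by
  have hl : ∀ l ∈ w.reverse, l < (Lg).length := fun l h =>
    letters_lt (len_Lg.symm ▸ hw) w (by simp) l (List.mem_reverse.1 h)
  have h := Fi22.matches_ρ.follow_eq w.reverse b hl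
  rw [Fi22.ev_rev, map_inv, inv_inv] at h
  exact h

theorem eq_of_rho_base {g h : Cfsg.Spor.Fi22} (e : ∀ b ∈ U62.base, Fi22.ρ g b = Fi22.ρ h b) : g = h := by
  have hm : h⁻¹ * g ∈ baseStab Fi22.ρ U62.base := (mem_foldl_inf _ ⊤).mpr ⟨trivial, fun b hb => mem_pstab.2 (by
    rw [map_mul, map_inv, Equiv.Perm.mul_apply, e b hb, Equiv.Perm.inv_def, Equiv.symm_apply_apply])⟩
  rw [U62.base_bot, Subgroup.mem_bot] at hm
  exact (inv_mul_eq_one.1 hm).symm

theorem base_lt {b : Fin 3510} : b.val < 3510 := b.2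

theorem alpha_eP (a : Nat) : alpha (eP a) = prP (actT.getD a []) ∧ ∀ x ∈ actT.getD a [], a ≤ x := by
  have h17 : actT.length = 17 := Nat.eq_of_beq_eq_true act_ok.1
  rcases Nat.lt_or_ge a 17 with ha | ha
  · have h := of_allBelow act_ok.2 a ha
    rw [cond_false_eq_true] at h
    refine ⟨eq_of_rho_base fun b hb => Fin.ext ?_, fun x hx => Nat.ble_eq.mp (allList_iff.mp h.1 x hx)⟩
    have h2 := allList_iff.mp h.2 b.val (List.mem_map.2 ⟨b, hb, rfl⟩)
    have hb' : pn (fA (pn (fA b.val)).val) = b := Fin.ext (by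
      rw [pn_val (alpha_pt.lt _ b.2), fA_invol b.2, pn_val b.2])
    have h3 := alpha_im (eP a) (pn (fA b.val))
    rw [hb'] at h3
    rw [h3, ← ev_wordP, rho_ev_val (wordP_letters _), eP, rho_ev_val (allList_iff.mpr fun w hw => by
      rw [List.mem_singleton.1 hw, List.getD_eq_getElem _ _ (show a < gW.length from ha)]
      exact allList_iff.mp gW_letters _ (List.getElem_mem _)), pn_val (alpha_pt.lt _ b.2)]
    exact Nat.eq_of_beq_eq_true h2
  · rw [List.getD_eq_default actT _ (h17 ▸ ha), eP_ge ha, map_one]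
    exact ⟨by simp [prP], by simp⟩

theorem alpha_prP : ∀ l : List Nat, alpha (prP l) = prP (aR l)
  | [] => by simp [prP, aR]
  | a :: l => by rw [prP_cons, map_mul, alpha_prP l, (alpha_eP a).1, aR, aR, List.flatMap_cons, prP_append]

/-- The tail of the series. -/
noncomputable def Qs (k : Nat) : Subgroup Cfsg.Spor.Fi22 := Subgroup.closure (eP '' {j | k ≤ j})

theorem eP_mem {k j : Nat} (h : k ≤ j) : eP j ∈ Qs k := Subgroup.subset_closure ⟨j, h, rfl⟩

theorem prP_mem {k : Nat} {l : List Nat} (h : ∀ x ∈ l, k ≤ x) : prP l ∈ Qs k :=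
  Subgroup.list_prod_mem _ fun z hz => by
    obtain ⟨x, hx, rfl⟩ := List.mem_map.1 hz
    exact eP_mem (h x hx)

theorem Qs_mono {k m : Nat} (h : k ≤ m) : Qs m ≤ Qs k :=
  Subgroup.closure_mono (Set.image_mono fun _ hj => le_trans h hj)

theorem conj_eP {k b : Nat} {q : Cfsg.Spor.Fi22} (hq : q ∈ Qs k) : (eP b)⁻¹ * q * eP b ∈ Qs k := by
  rcases Nat.lt_or_ge b k with hb | hb
  · induction hq using Subgroup.closure_induction with
    | mem z hz =>
      obtain ⟨a, ha, rfl⟩ := hz
      have hab : b < a := lt_of_lt_of_le hb ha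
      rw [mul_assoc, (cR_facts b a).1 hab, inv_mul_cancel_left]
      exact prP_mem fun x hx => le_trans ha ((cR_facts b a).2 x hx).1
    | one => rw [mul_one, inv_mul_cancel]; exact one_mem _
    | mul x y _ _ hx hy =>
      rw [show (eP b)⁻¹ * (x * y) * eP b = ((eP b)⁻¹ * x * eP b) * ((eP b)⁻¹ * y * eP b) by group]
      exact mul_mem hx hy
    | inv x _ hx =>
      rw [show (eP b)⁻¹ * x⁻¹ * eP b = ((eP b)⁻¹ * x * eP b)⁻¹ by group]
      exact inv_mem hx
  · exact mul_mem (mul_mem (inv_mem (eP_mem hb)) hq) (eP_mem hb)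

theorem conj_mem {k : Nat} {g : Cfsg.Spor.Fi22} (hg : g ∈ Qs 0) {q : Cfsg.Spor.Fi22} (hq : q ∈ Qs k) :
    g * q * g⁻¹ ∈ Qs k := by
  haveI := Fi22.card_le.1
  suffices ∀ q ∈ Qs k, g⁻¹ * q * g ∈ Qs k by
    have hsub : (Qs k).map (MulAut.conj g⁻¹).toMonoidHom = Qs k :=
      Subgroup.eq_of_le_of_card_ge (by rintro _ ⟨x, hx, rfl⟩; simpa using this x hx)
        (le_of_eq (Subgroup.card_map_of_injective (MulAut.conj g⁻¹).injective).symm)
    obtain ⟨x, hx, e⟩ := hsub.ge hq
    have e' : g⁻¹ * x * g = q := by simpa using e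
    rw [← e']
    simpa [mul_assoc] using hx
  induction hg using Subgroup.closure_induction with
  | mem z hz => obtain ⟨b, -, rfl⟩ := hz; exact fun q hq => conj_eP hq
  | one => simp
  | mul x y _ _ hx hy =>
    intro q hq
    rw [show (x * y)⁻¹ * q * (x * y) = y⁻¹ * (x⁻¹ * q * x) * y by group]
    exact hy _ (hx q hq)
  | inv x _ hx =>
    intro q hq
    have hsub : (Qs k).map (MulAut.conj x⁻¹).toMonoidHom = Qs k :=
      Subgroup.eq_of_le_of_card_ge (by rintro _ ⟨y, hy, rfl⟩; simpa using hx y hy)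
        (le_of_eq (Subgroup.card_map_of_injective (MulAut.conj x⁻¹).injective).symm)
    obtain ⟨y, hy, e⟩ := hsub.ge hq
    have e' : x⁻¹ * y * x = q := by simpa using e
    rw [← e']
    simpa [mul_assoc] using hy

theorem alpha_Qs {k : Nat} {q : Cfsg.Spor.Fi22} (hq : q ∈ Qs k) : alpha q ∈ Qs k := by
  induction hq using Subgroup.closure_induction with
  | mem z hz =>
    obtain ⟨a, ha, rfl⟩ := hz
    rw [(alpha_eP a).1]
    exact prP_mem fun x hx => le_trans ha ((alpha_eP a).2 x hx)
  | one => rw [map_one]; exact one_mem _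
  | mul x y _ _ hx hy => rw [map_mul]; exact mul_mem hx hy
  | inv x _ hx => rw [map_inv]; exact inv_mem hx

theorem Qs_cases {k : Nat} {x : Cfsg.Spor.Fi22} (hx : x ∈ Qs k) :
    x ∈ Qs (k + 1) ∨ (eP k)⁻¹ * x ∈ Qs (k + 1) := by
  have hk0 : eP k ∈ Qs 0 := eP_mem (Nat.zero_le k)
  have hsq : eP k * eP k ∈ Qs (k + 1) := by
    rw [(sR_facts k).1]; exact prP_mem fun y hy => (sR_facts k).2 y hy
  have hconj : ∀ q ∈ Qs (k + 1), (eP k)⁻¹ * q * eP k ∈ Qs (k + 1) := fun q hq => by
    have := conj_mem (inv_mem hk0) hq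
    rwa [inv_inv] at this
  have hinv : ∀ q, (eP k)⁻¹ * q ∈ Qs (k + 1) → eP k * q ∈ Qs (k + 1) := fun q hq => by
    have := mul_mem hsq hq
    rwa [mul_assoc, mul_inv_cancel_left] at this
  induction hx using Subgroup.closure_induction with
  | mem z hz =>
    obtain ⟨j, hj, rfl⟩ := hz
    rcases Nat.lt_or_eq_of_le (show k ≤ j from hj) with h | rfl
    · exact Or.inl (eP_mem h)
    · exact Or.inr (by rw [inv_mul_cancel]; exact one_mem _)
  | one => exact Or.inl (one_mem _)
  | mul x y _ _ hx hy =>
    rcases hx with hx | hx <;> rcases hy with hy | hy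
    · exact Or.inl (mul_mem hx hy)
    · right
      rw [show (eP k)⁻¹ * (x * y) = ((eP k)⁻¹ * x * eP k) * ((eP k)⁻¹ * y) by group]
      exact mul_mem (hconj x hx) hy
    · right
      rw [← mul_assoc]
      exact mul_mem hx hy
    · left
      rw [show x * y = (eP k * ((eP k)⁻¹ * x) * (eP k)⁻¹) * (eP k * eP k * ((eP k)⁻¹ * y)) by group]
      exact mul_mem (conj_mem hk0 hx) (mul_mem hsq hy)
  | inv x _ hx =>
    rcases hx with hx | hx
    · exact Or.inl (inv_mem hx)
    · right
      have h2 := mul_mem (hconj _ (inv_mem hx)) (inv_mem hsq)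
      rwa [show (eP k)⁻¹ * x⁻¹ = (eP k)⁻¹ * ((eP k)⁻¹ * x)⁻¹ * eP k * (eP k * eP k)⁻¹ by group]

theorem Qs_last {k : Nat} (h : 17 ≤ k) : Qs k = ⊥ := by
  rw [eq_bot_iff, Qs, Subgroup.closure_le]
  rintro _ ⟨j, hj, rfl⟩
  exact eP_ge (le_trans h hj)

theorem card_Qs_succ (k : Nat) : Nat.card (Qs k) ≤ 2 * Nat.card (Qs (k + 1)) := by
  haveI := Fi22.card_le.1
  have hsub : (Qs k : Set Cfsg.Spor.Fi22) ⊆ (Qs (k + 1) : Set _) ∪ (fun q => eP k * q) '' (Qs (k + 1) : Set _) :=
    fun x hx => (Qs_cases hx).imp id fun h => ⟨_, h, mul_inv_cancel_left _ _⟩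
  have h := (Set.ncard_le_ncard hsub (Set.toFinite _)).trans (Set.ncard_union_le _ _)
  have h2 := Set.ncard_image_le (f := fun q => eP k * q) (Set.toFinite (Qs (k + 1) : Set Cfsg.Spor.Fi22))
  show Nat.card ↥(Qs k : Set Cfsg.Spor.Fi22) ≤ 2 * Nat.card ↥(Qs (k + 1) : Set Cfsg.Spor.Fi22)
  rw [Nat.card_coe_set_eq, Nat.card_coe_set_eq]
  omega

theorem orb_checks :
    checkOrbit Top.Tb 0 1024 10 (orb0G.map wordP) orb0P orb0I = true ∧
    checkOrbit Top.Tb 1 64 6 (orb1G.map wordP) orb1P orb1I = true ∧
    checkOrbit Top.Tb 192 2 1 (orb2G.map wordP) orb2P orb2I = true ∧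
    checkFix Top.Tb [0] (orb1G.map wordP) = true ∧ checkFix Top.Tb [0, 1] (orb2G.map wordP) = true := by
  decide +kernel

theorem orbG_letters (g : List (List Nat)) : checkLetters (Lg).length (g.map wordP) = true := by
  rw [len_Lg]
  refine allList_iff.mpr fun w hw => ?_
  obtain ⟨l, -, rfl⟩ := List.mem_map.1 hw
  exact allList_iff.mp (wordP_letters l) _ (List.mem_singleton_self _)

theorem orbG_mem (g : List (List Nat)) : ∀ w ∈ g.map wordP, ev Lg w ∈ Qs 0 := by
  intro w hw
  obtain ⟨l, -, rfl⟩ := List.mem_map.1 hw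
  rw [ev_wordP]
  exact prP_mem fun x _ => Nat.zero_le x

theorem card_Qs_zero : Nat.card (Qs 0) = 2 ^ 17 := by
  haveI := Fi22.card_le.1
  refine le_antisymm ?_ ?_
  · have h : ∀ j, j ≤ 17 → Nat.card (Qs (17 - j)) ≤ 2 ^ j := by
      intro j
      induction j with
      | zero => intro _; rw [Qs_last le_rfl, Subgroup.card_bot]; simp
      | succ j ih =>
        intro hj
        have := card_Qs_succ (17 - (j + 1))
        rw [show 17 - (j + 1) + 1 = 17 - j by omega] at this
        have := ih (by omega)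
        rw [pow_succ]
        omega
    simpa using h 17 le_rfl
  · obtain ⟨o0, o1, o2, f1, f2⟩ := orb_checks
    have f0 : checkFix Top.Tb (([] : List (Fin 3510)).map Fin.val) (orb0G.map wordP) = true :=
      allList_iff.mpr fun _ _ => rfl
    have h3 : 1 ≤ Nat.card (Qs 0 ⊓ baseStab Fi22.ρ [(0 : Fin 3510), 1, 192] : Subgroup _) := Nat.card_pos
    have h2 := orbit_step_in Fi22.matches_ρ (Qs 0) (base := [(0 : Fin 3510), 1]) (β := 192) o2
      (orbG_letters _) f2 (orbG_mem _) h3
    have h1 := orbit_step_in Fi22.matches_ρ (Qs 0) (base := [(0 : Fin 3510)]) (β := 1) o1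
      (orbG_letters _) f1 (orbG_mem _) h2
    have h0 := orbit_step_in Fi22.matches_ρ (Qs 0) (base := []) (β := 0) o0
      (orbG_letters _) f0 (orbG_mem _) h1
    simpa [baseStab] using h0

theorem eP_not_mem {k : Nat} (hk : k < 17) : eP k ∉ Qs (k + 1) := by
  intro hm
  haveI := Fi22.card_le.1
  have hupper : ∀ j, j ≤ 17 → Nat.card (Qs (17 - j)) ≤ 2 ^ j := by
    intro j
    induction j with
    | zero => intro _; rw [Qs_last le_rfl, Subgroup.card_bot]; simp
    | succ j ih =>
      intro hj
      have := card_Qs_succ (17 - (j + 1))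
      rw [show 17 - (j + 1) + 1 = 17 - j by omega] at this
      have := ih (by omega)
      rw [pow_succ]
      omega
  have heq : Qs k = Qs (k + 1) := by
    refine le_antisymm (fun x hx => (Qs_cases hx).elim id fun h => ?_) (Qs_mono (Nat.le_succ k))
    have := mul_mem hm h
    rwa [mul_inv_cancel_left] at this
  have hlow : ∀ i, i ≤ k → Nat.card (Qs 0) ≤ 2 ^ i * Nat.card (Qs i) := by
    intro i
    induction i with
    | zero => intro _; simp
    | succ i ih =>
      intro hi
      have := ih (by omega)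
      have h2 := Nat.mul_le_mul_left (2 ^ i) (card_Qs_succ i)
      rw [pow_succ, mul_assoc]
      omega
  have h1 := hlow k le_rfl
  rw [heq, card_Qs_zero] at h1
  have h2 := hupper (17 - (k + 1)) (by omega)
  rw [show 17 - (17 - (k + 1)) = k + 1 by omega] at h2
  have h3 := h1.trans (Nat.mul_le_mul_left _ h2)
  rw [← pow_add] at h3
  have := (Nat.pow_le_pow_iff_right (by norm_num)).1 h3
  omega

/-- A generator pushed into a normal form from the left. -/
noncomputable def push : Nat → Nat → List Nat → List Nat :=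
  fun fuel => Nat.rec (motive := fun _ => Nat → List Nat → List Nat) (fun a r => a :: r)
    (fun _ ih a r => List.rec (motive := fun _ => List Nat) [a]
      (fun b r' _ => cond (Nat.ble (Nat.add a 1) b) (a :: b :: r')
        (cond (Nat.beq a b) ((sR a).foldr ih r') (b :: (cR b a).foldr ih r'))) r) fuel

/-- The normal form. -/
noncomputable def nfP (w : List Nat) : List Nat := w.foldr (push 20) []

theorem foldr_push {fuel : Nat} (ih : ∀ a r, prP (push fuel a r) = eP a * prP r) :
    ∀ (l r : List Nat), prP (l.foldr (push fuel) r) = prP l * prP r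
  | [], r => by simp [prP]
  | a :: l, r => by rw [List.foldr_cons, ih, foldr_push ih l r, prP_cons, mul_assoc]

theorem prP_push : ∀ (fuel a : Nat) (r : List Nat), prP (push fuel a r) = eP a * prP r
  | 0, a, r => prP_cons a r
  | fuel + 1, a, [] => prP_cons a []
  | fuel + 1, a, b :: r' => by
    show prP (cond (Nat.ble (Nat.add a 1) b) (a :: b :: r')
      (cond (Nat.beq a b) ((sR a).foldr (push fuel) r') (b :: (cR b a).foldr (push fuel) r'))) = _
    cases h1 : Nat.ble (Nat.add a 1) b with
    | true => rw [cond_true, prP_cons]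
    | false =>
      rw [cond_false]
      cases h2 : Nat.beq a b with
      | true =>
        obtain rfl := Nat.eq_of_beq_eq_true h2
        rw [cond_true, foldr_push (prP_push fuel), ← (sR_facts a).1, prP_cons, mul_assoc]
      | false =>
        have hba : b < a := by
          by_contra q
          rcases Nat.lt_or_eq_of_le (Nat.le_of_not_lt q) with h | h
          · rw [show Nat.ble (Nat.add a 1) b = true from Nat.ble_eq.mpr h] at h1
            exact Bool.noConfusion h1
          · subst h; simp at h2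
        rw [cond_false, prP_cons, foldr_push (prP_push fuel), prP_cons, ← mul_assoc, ← (cR_facts b a).1 hba,
          mul_assoc]

theorem prP_nfP (w : List Nat) : prP (nfP w) = prP w := by
  rw [nfP, foldr_push (prP_push 20), show prP [] = 1 from rfl, mul_one]

end CfsgLib.Coset.Fi22Inv
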